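import Cfsg.Prelude
import Cfsg.Agent.Lib.Components.Local
import Cfsg.Agent.Lib.Components.Balance
import Cfsg.Agent.Lib.Solvable.CoprimeGeneration
import Cfsg.Agent.S1293

/-!
# Signalizer functors on a connected rank-two graph

`θ = ⊥` for an equivariant solvable signalizer functor on a group with trivial `O_{p'}` and connected
rank-two graph, given completeness (`Completion`), and the consequence for `θ = O_{p'}(C(·))` when
the `p`-layers of the centralisers are trivial.
-/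

set_option autoImplicit false

namespace CfsgLib.SignalizerConn42

open Subgroup

universe u

/-- Completeness of solvable signalizer functors at rank at least three. -/
def Completion (G : Type u) [Group G] (p : ℕ) : Prop :=
  ∀ (A : Subgroup G), (∀ a ∈ A, ∀ b ∈ A, a * b = b * a) → (∀ a ∈ A, a ^ p = 1) → p ^ 3 ≤ Nat.card A →
    ∀ θ : G → Subgroup G, (∀ a ∈ A, a ≠ 1 → θ a ≤ centralizer {a}) →
      (∀ a ∈ A, a ≠ 1 → ¬ p ∣ Nat.card (θ a)) →
      (∀ a ∈ A, a ≠ 1 → ∀ b ∈ A, ∀ x ∈ θ a, b * x * b⁻¹ ∈ θ a) →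
      (∀ a ∈ A, a ≠ 1 → Group.IsSolvable (θ a)) →
      (∀ a ∈ A, a ≠ 1 → ∀ b ∈ A, b ≠ 1 → θ a ⊓ centralizer {b} ≤ θ b) →
      ¬ p ∣ Nat.card ↥(⨆ a : {a : G // a ∈ A ∧ a ≠ 1}, θ a)

variable {G : Type u} [Group G] {p : ℕ}

/-- Elements of order `p` whose centralizer has `p`-rank at least three. -/
def Big (p : ℕ) (a : G) : Prop :=
  orderOf a = p ∧ ¬ Cfsg.PRankLE p 2 ↥(centralizer ({a} : Set G))

theorem elemAb_sup {A B : Subgroup G} (hA : Cfsg.IsElementaryAbelian p A)
    (hB : Cfsg.IsElementaryAbelian p B) (hAB : ∀ a ∈ A, ∀ b ∈ B, a * b = b * a) :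
    Cfsg.IsElementaryAbelian p (A ⊔ B : Subgroup G) := by
  have hBn : B ≤ normalizer (A : Set G) := fun b hb => mem_normalizer_iff.mpr fun x => by
    constructor
    · intro hx
      rw [← hAB x hx b hb, mul_inv_cancel_right]; exact hx
    · intro hx
      have h := hAB _ hx b hb
      have : x = b * x * b⁻¹ := by
        calc x = b⁻¹ * (b * x * b⁻¹ * b) := by group
          _ = b⁻¹ * (b * (b * x * b⁻¹)) := by rw [h]
          _ = b * x * b⁻¹ := by group
      rwa [this]
  have hmem : ∀ x ∈ A ⊔ B, ∃ a ∈ A, ∃ b ∈ B, a * b = x := by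
    intro x hx
    rw [← SetLike.mem_coe, coe_mul_of_right_le_normalizer_left A B hBn] at hx
    exact Set.mem_mul.mp hx
  refine ⟨⟨⟨fun x y => Subtype.ext ?_⟩⟩, fun x hx => ?_⟩
  · obtain ⟨a, ha, b, hb, hx⟩ := hmem _ x.2
    obtain ⟨c, hc, d, hd, hy⟩ := hmem _ y.2
    have h1 : a * c = c * a := congrArg Subtype.val (hA.1.is_comm.comm ⟨a, ha⟩ ⟨c, hc⟩)
    have h2 : b * d = d * b := congrArg Subtype.val (hB.1.is_comm.comm ⟨b, hb⟩ ⟨d, hd⟩)
    show (x : G) * y = y * x
    rw [← hx, ← hy]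
    calc a * b * (c * d) = a * (b * c) * d := by group
      _ = a * (c * b) * d := by rw [hAB c hc b hb]
      _ = (a * c) * (b * d) := by group
      _ = c * (a * d) * b := by rw [h1, h2]; group
      _ = c * (d * a) * b := by rw [hAB a ha d hd]
      _ = c * d * (a * b) := by group
  · obtain ⟨a, ha, b, hb, rfl⟩ := hmem x hx
    rw [(show Commute a b from hAB a ha b hb).mul_pow, hA.2 a ha, hB.2 b hb, one_mul]

theorem elemAb_zpowers {a : G} (ha : a ^ p = 1) : Cfsg.IsElementaryAbelian p (zpowers a) :=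
  ⟨inferInstance, fun x hx => by
    obtain ⟨k, rfl⟩ := mem_zpowers_iff.mp hx
    rw [← zpow_natCast, ← zpow_mul, mul_comm, zpow_mul, zpow_natCast, ha, one_zpow]⟩

/-- `¬ PRankLE p 2` of a subgroup as an elementary abelian subgroup inside it. -/
theorem exists_elemAb {C : Subgroup G} [hp : Fact p.Prime] [Finite G] (h : ¬ Cfsg.PRankLE p 2 C) :
    ∃ A ≤ C, Cfsg.IsElementaryAbelian p A ∧ p ^ 3 ≤ Nat.card A := by
  simp only [Cfsg.PRankLE, not_forall, not_le] at h
  obtain ⟨A, hAc, hAp, hcard⟩ := h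
  refine ⟨A.map C.subtype, map_subtype_le _, ⟨?_, ?_⟩, ?_⟩
  · exact Subgroup.map_isMulCommutative A C.subtype
  · rintro _ ⟨a, ha, rfl⟩
    exact congrArg Subtype.val (hAp a ha)
  · rw [card_map_of_injective C.subtype_injective]
    obtain ⟨n, hn⟩ := IsPGroup.iff_card.mp (fun a : A => ⟨1, Subtype.ext (by simpa using hAp a a.2)⟩ :
      IsPGroup p A)
    rw [hn] at hcard ⊢
    exact Nat.pow_le_pow_right hp.out.pos
      (Nat.succ_le_of_lt ((Nat.pow_lt_pow_iff_right hp.out.one_lt).mp hcard))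

theorem vertex_of_rank {A : Subgroup G} (hA : Cfsg.IsElementaryAbelian p A) [hp : Fact p.Prime]
    (h3 : p ^ 3 ≤ Nat.card A) : Cfsg.IsRankGraphVertex p 2 A := by
  refine ⟨hA, le_trans (Nat.pow_le_pow_right hp.out.pos (by norm_num)) h3, fun h => ?_⟩
  have hAC : A ≤ centralizer (A : Set G) := fun a ha => mem_centralizer_iff.mpr fun b hb =>
    congrArg Subtype.val (hA.1.is_comm.comm ⟨b, hb⟩ ⟨a, ha⟩)
  haveI := hA.1
  have h1 := h (A.subgroupOf (centralizer (A : Set G))) inferInstance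
    (fun a ha => Subtype.ext (by simpa using hA.2 _ ha))
  rw [Nat.card_congr (subgroupOfEquivOfLe hAC).toEquiv] at h1
  exact absurd (h3.trans h1) (Nat.not_le.mpr (Nat.pow_lt_pow_right hp.out.one_lt (by norm_num)))

theorem theta_eq_bot [Finite G] [hp : Fact p.Prime] (hcomp : Completion G p)
    (hO : Cfsg.pPrimeCore p G = ⊥) (hrk : ¬ Cfsg.PRankLE p 2 G)
    (hconn : Cfsg.IsRankGraphConnected p 2 G) (θ : G → Subgroup G)
    (hC : ∀ a : G, Big p a → θ a ≤ centralizer ({a} : Set G) ∧ ¬ p ∣ Nat.card (θ a) ∧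
      Group.IsSolvable (θ a))
    (heq : ∀ a g : G, Big p a → θ (g * a * g⁻¹) = (θ a).map (MulAut.conj g).toMonoidHom)
    (hbal : ∀ a b : G, Big p a → Big p b → a * b = b * a → θ a ⊓ centralizer {b} ≤ θ b)
    (a : G) (ha : Big p a) : θ a = ⊥ := by
  set W : Subgroup G → Subgroup G := fun E => ⨆ b : {b : G // b ∈ E ∧ b ≠ 1}, θ b with hW
  have hbig : ∀ E : Subgroup G, Cfsg.IsRankGraphVertex p 2 E → ∀ b ∈ E, b ≠ 1 → Big p b := by
    intro E hE b hb hb1
    refine ⟨orderOf_eq_prime (hE.1.2 b hb) hb1, fun h => hE.2.2 ?_⟩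
    have hle : centralizer (E : Set G) ≤ centralizer ({b} : Set G) :=
      centralizer_le (Set.singleton_subset_iff.mpr hb)
    intro A hAc hAp
    have := h (A.map (inclusion hle)) (Subgroup.map_isMulCommutative A _) (by
      rintro _ ⟨x, hx, rfl⟩
      rw [← map_pow, hAp x hx, map_one])
    rwa [card_map_of_injective (inclusion_injective hle)] at this
  have hnorm : ∀ b, Big p b → ∀ c, c * b = b * c → c ∈ normalizer (θ b : Set G) := by
    intro b hb c hc
    refine Subgroup.mem_normalizer_iff.mpr fun x => ?_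
    have h := heq b c hb
    rw [hc, mul_inv_cancel_right] at h
    conv_rhs => rw [h]
    exact (Subgroup.mem_map_iff_mem (MulAut.conj c).injective).symm
  -- adjacent vertices have the same completion
  have hadj : ∀ E E' : Subgroup G, Cfsg.IsRankGraphVertex p 2 E → Cfsg.IsRankGraphVertex p 2 E' →
      (∀ x ∈ E, ∀ y ∈ E', x * y = y * x) → W E ≤ W E' := by
    intro E E' hE hE' hc
    refine iSup_le fun b => ?_
    have hb := hbig E hE b b.2.1 b.2.2
    haveI := hE'.1.1
    have hncyc : ¬ IsCyclic E' := fun hcyc => by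
      haveI := hcyc
      obtain ⟨g, hg⟩ := IsCyclic.exists_generator (α := E')
      have h1 : Nat.card E' ≤ p := by
        rw [← orderOf_eq_card_of_forall_mem_zpowers hg]
        exact Nat.le_of_dvd hp.out.pos (orderOf_dvd_of_pow_eq_one (show g ^ p = 1 from Subtype.ext (by simpa using hE'.1.2 _ g.2)))
      have h2 : p ^ 1 < p ^ 2 := Nat.pow_lt_pow_right hp.out.one_lt (by norm_num)
      rw [pow_one] at h2
      exact absurd (hE'.2.1.trans h1) (Nat.not_le.mpr h2)
    obtain ⟨n, hn⟩ := IsPGroup.iff_card.mp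
      (fun x : E' => ⟨1, Subtype.ext (by simpa using hE'.1.2 x x.2)⟩ : IsPGroup p E')
    rw [← CfsgLib.CoprimeGeneration.iSup_centralizer_eq E' (θ (b : G)) hncyc
      (fun y hy => hnorm b hb y (hc b b.2.1 y hy).symm)
      (hn ▸ (Nat.Coprime.pow_left n (hp.out.coprime_iff_not_dvd.mpr (hC b hb).2.1)))]
    refine iSup₂_le fun y hy => ?_
    exact (hbal b y hb (hbig E' hE' y hy.1 hy.2) (hc b b.2.1 y hy.1)).trans
      (le_iSup (fun z : {z : G // z ∈ E' ∧ z ≠ 1} => θ z) ⟨y, hy⟩)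
  have hall : ∀ E E' : Subgroup G, Cfsg.IsRankGraphVertex p 2 E → Cfsg.IsRankGraphVertex p 2 E' → W E = W E' := by
    intro E E' hE hE'
    have h := hconn E E' hE hE'
    clear hE'
    induction h with
    | refl => rfl
    | tail _ hBC ih =>
      exact ih.trans (le_antisymm (hadj _ _ hBC.1 hBC.2.1 hBC.2.2)
        (hadj _ _ hBC.2.1 hBC.1 fun x hx y hy => (hBC.2.2 y hy x hx).symm))
  obtain ⟨A₀, hA₀a, hA₀p, hA₀⟩ : ∃ A : Subgroup G, (A ≤ ⊤) ∧ Cfsg.IsElementaryAbelian p A ∧ p ^ 3 ≤ Nat.card A := by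
    simp only [Cfsg.PRankLE, not_forall, not_le] at hrk
    obtain ⟨A, hAc, hAp, hcard⟩ := hrk
    obtain ⟨n, hn⟩ := IsPGroup.iff_card.mp (fun a : A => ⟨1, Subtype.ext (by simpa using hAp a a.2)⟩ :
      IsPGroup p A)
    refine ⟨A, le_top, ⟨hAc, hAp⟩, ?_⟩
    rw [hn] at hcard ⊢
    exact Nat.pow_le_pow_right hp.out.pos
      (Nat.succ_le_of_lt ((Nat.pow_lt_pow_iff_right hp.out.one_lt).mp hcard))
  have hV₀ := vertex_of_rank hA₀p hA₀
  have hWp : ¬ p ∣ Nat.card (W A₀) := hcomp A₀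
    (fun x hx y hy => congrArg Subtype.val (hA₀p.1.is_comm.comm ⟨x, hx⟩ ⟨y, hy⟩)) hA₀p.2 hA₀ θ
    (fun b hb hb1 => (hC b (hbig _ hV₀ b hb hb1)).1) (fun b hb hb1 => (hC b (hbig _ hV₀ b hb hb1)).2.1)
    (fun b hb hb1 c hc x hx => (Subgroup.mem_normalizer_iff.mp (hnorm b (hbig _ hV₀ b hb hb1) c
      (congrArg Subtype.val (hA₀p.1.is_comm.comm ⟨c, hc⟩ ⟨b, hb⟩))) x).mp hx)
    (fun b hb hb1 => (hC b (hbig _ hV₀ b hb hb1)).2.2)
    (fun b hb hb1 c hc hc1 => hbal b c (hbig _ hV₀ b hb hb1) (hbig _ hV₀ c hc hc1)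
      (congrArg Subtype.val (hA₀p.1.is_comm.comm ⟨b, hb⟩ ⟨c, hc⟩)))
  have hWn : (W A₀).Normal := by
    refine ⟨fun x hx g => ?_⟩
    have hA' : Cfsg.IsElementaryAbelian p (A₀.map (MulAut.conj g).toMonoidHom) := by
      refine ⟨haveI := hA₀p.1; Subgroup.map_isMulCommutative A₀ _, ?_⟩
      rintro _ ⟨y, hy, rfl⟩
      rw [← map_pow, hA₀p.2 y hy, map_one]
    have hV' := vertex_of_rank hA' (by rwa [card_map_of_injective (MulAut.conj g).injective])
    rw [hall A₀ _ hV₀ hV']
    have h1 : (W A₀).map (MulAut.conj g).toMonoidHom ≤ W (A₀.map (MulAut.conj g).toMonoidHom) := by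
      rw [hW, Subgroup.map_iSup]
      refine iSup_le fun b => ?_
      rw [← heq b g (hbig _ hV₀ b b.2.1 b.2.2)]
      exact le_iSup (fun z : {z : G // z ∈ A₀.map (MulAut.conj g).toMonoidHom ∧ z ≠ 1} => θ z)
        ⟨g * b * g⁻¹, ⟨mem_map_of_mem _ b.2.1, fun h => b.2.2 (conj_eq_one_iff.mp h)⟩⟩
    exact h1 (mem_map_of_mem _ hx)
  have hbot : W A₀ = ⊥ := by
    haveI := hWn
    exact le_bot_iff.mp (hO ▸ CfsgLib.PCore.le_pPrimeCore hWn (hp.out.coprime_iff_not_dvd.mpr hWp).symm)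
  obtain ⟨B, hBC, hB, hB3⟩ := exists_elemAb ha.2
  have hAB : Cfsg.IsElementaryAbelian p (B ⊔ zpowers a : Subgroup G) :=
    elemAb_sup hB (elemAb_zpowers (ha.1 ▸ pow_orderOf_eq_one a)) fun b hb c hc => by
      obtain ⟨k, rfl⟩ := mem_zpowers_iff.mp hc
      exact ((show Commute b a from (mem_centralizer_singleton_iff.mp (hBC hb))).zpow_right k).eq
  have hVa := vertex_of_rank hAB (hB3.trans (card_le_of_le le_sup_left))
  have ha1 : a ≠ 1 := fun h => hp.out.ne_one (by rw [← ha.1, h, orderOf_one])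
  refine le_bot_iff.mp ?_
  rw [← hbot, hall A₀ _ hV₀ hVa]
  exact le_iSup (fun z : {z : G // z ∈ B ⊔ zpowers a ∧ z ≠ 1} => θ z)
    ⟨a, mem_sup_right (mem_zpowers a), ha1⟩

theorem pLayer_eq_bot_of_equiv_centralizer_core_bal [Finite G] [hp : Fact p.Prime] {a b : G}
    (hao : orderOf a = p) (hcom : a * b = b * a)
    (hL : Cfsg.pLayer p ↥(centralizer ({b} : Set G)) = ⊥) :
    Cfsg.centralizerPPrimeCore p a ⊓ centralizer {b} ≤ Cfsg.centralizerPPrimeCore p b := by
  set K := centralizer ({b} : Set G) with hK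
  have haK : a ∈ K := mem_centralizer_singleton_iff.mpr hcom
  set P := zpowers (⟨a, haK⟩ : K) with hP
  have hord : orderOf (⟨a, haK⟩ : K) = p := by rw [Subgroup.orderOf_mk, hao]
  have hP1 : P ≠ ⊥ := fun h => hp.out.ne_one (by
    rw [← hord, zpowers_eq_bot.mp h, orderOf_one])
  have h93 := (Cfsg.Agent.S1293.result p hL P (CfsgLib.Components.isPGroup_zpowers hord) hP1).2
  intro y hy
  have hy' : y ∈ CfsgLib.Components.centralizerCore p ({a, b} : Set G) :=
    CfsgLib.Components.centralizerCore_inf_le (Set.singleton_subset_iff.mpr (Set.mem_insert a _))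
      ⟨hy.1, by
        show y ∈ centralizer ({a, b} : Set G)
        rw [mem_centralizer_iff]
        rintro z (rfl | rfl)
        · exact mem_centralizer_iff.mp (CfsgLib.Components.centralizerCore_le_centralizer _ hy.1) z rfl
        · exact mem_centralizer_iff.mp hy.2 z rfl⟩
  obtain ⟨w, hw, rfl⟩ := hy'
  have hleK : centralizer ({a, b} : Set G) ≤ K :=
    centralizer_le (Set.singleton_subset_iff.mpr (Set.mem_insert_of_mem _ rfl))
  have hcen : ∀ x : centralizer ({a, b} : Set G), inclusion hleK x ∈ centralizer (P : Set K) := by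
    intro x
    rw [hP, ← CfsgLib.Components.centralizer_singleton_eq, mem_centralizer_singleton_iff]
    exact Subtype.ext (mem_centralizer_iff.mp x.2 a (Set.mem_insert a _)).symm
  let f : centralizer ({a, b} : Set G) →* centralizer (P : Set K) :=
    (inclusion hleK).codRestrict _ hcen
  have hf : Function.Surjective f := fun z => by
    refine ⟨⟨((z : K) : G), ?_⟩, Subtype.ext (Subtype.ext rfl)⟩
    rw [mem_centralizer_iff]
    rintro t (rfl | rfl)
    · exact congrArg Subtype.val (mem_centralizer_iff.mp z.2 ⟨t, haK⟩ (mem_zpowers _))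
    · exact mem_centralizer_iff.mp (z : K).2 t rfl
  have h1 : inclusion hleK w ∈ CfsgLib.Components.centralizerCore p (P : Set K) :=
    ⟨f w, CfsgLib.PCore.map_pPrimeCore_le f hf (mem_map_of_mem f hw), rfl⟩
  exact ⟨inclusion hleK w, h93 (CfsgLib.Components.centralizerCore_le_normalizer_core P h1), rfl⟩

theorem centralizerPPrimeCore_conj [Finite G] [Fact p.Prime] (a g : G) :
    (Cfsg.centralizerPPrimeCore p a).map (MulAut.conj g).toMonoidHom ≤
      Cfsg.centralizerPPrimeCore p (g * a * g⁻¹) := by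
  rintro _ ⟨_, ⟨w, hw, rfl⟩, rfl⟩
  have hmem : ∀ x : centralizer ({a} : Set G), g * x * g⁻¹ ∈ centralizer ({g * a * g⁻¹} : Set G) := by
    intro x
    rw [mem_centralizer_singleton_iff]
    calc g * x * g⁻¹ * (g * a * g⁻¹) = g * (x * a) * g⁻¹ := by group
      _ = g * (a * x) * g⁻¹ := by rw [mem_centralizer_singleton_iff.mp x.2]
      _ = g * a * g⁻¹ * (g * x * g⁻¹) := by group
  let f : centralizer ({a} : Set G) →* centralizer ({g * a * g⁻¹} : Set G) :=
    ((MulAut.conj g).toMonoidHom.comp (centralizer ({a} : Set G)).subtype).codRestrict _ hmem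
  have hf : Function.Surjective f := fun z => by
    refine ⟨⟨g⁻¹ * z * g, ?_⟩, Subtype.ext ?_⟩
    · rw [mem_centralizer_singleton_iff]
      have hz := mem_centralizer_singleton_iff.mp z.2
      calc g⁻¹ * z * g * a = g⁻¹ * (z * (g * a * g⁻¹)) * g := by group
        _ = g⁻¹ * (g * a * g⁻¹ * z) * g := by rw [hz]
        _ = a * (g⁻¹ * z * g) := by group
    · show g * (g⁻¹ * z * g) * g⁻¹ = (z : G)
      group
  exact ⟨f w, CfsgLib.PCore.map_pPrimeCore_le f hf (mem_map_of_mem f hw), rfl⟩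

theorem generalizedFitting_eq_pCore [Finite G] [hp : Fact p.Prime] (hcomp : Completion G p)
    (hO : Cfsg.pPrimeCore p G = ⊥) (hrk : ¬ Cfsg.PRankLE p 2 G)
    (hconn : Cfsg.IsRankGraphConnected p 2 G)
    (hL : ∀ a : G, Big p a → Cfsg.pLayer p ↥(centralizer ({a} : Set G)) = ⊥ ∧
      Group.IsSolvable ↥(Cfsg.centralizerPPrimeCore p a))
    (a : G) (ha : Big p a) :
    Cfsg.generalizedFittingSubgroup ↥(centralizer ({a} : Set G)) =
      Cfsg.pCore p ↥(centralizer ({a} : Set G)) := by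
  have h0 : Cfsg.centralizerPPrimeCore p a = ⊥ := theta_eq_bot hcomp hO hrk hconn
    (fun x => Cfsg.centralizerPPrimeCore p x)
    (fun b hb => ⟨map_subtype_le _, (hp.out.coprime_iff_not_dvd).mp
      (CfsgLib.Components.card_centralizerCore_coprime _).symm, (hL b hb).2⟩)
    (fun b g hb => le_antisymm (fun x hx => by
      have h1 := centralizerPPrimeCore_conj (g * b * g⁻¹) g⁻¹ (mem_map_of_mem _ hx)
      rw [show g⁻¹ * (g * b * g⁻¹) * g⁻¹⁻¹ = b by group] at h1
      refine ⟨_, h1, ?_⟩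
      show g * (g⁻¹ * x * g⁻¹⁻¹) * g⁻¹ = x
      group) (centralizerPPrimeCore_conj b g))
    (fun b c hb hc hcom => pLayer_eq_bot_of_equiv_centralizer_core_bal hb.1 hcom (hL c hc).1) a ha
  set C := centralizer ({a} : Set G)
  have hOC : Cfsg.pPrimeCore p C = ⊥ := (Subgroup.map_eq_bot_iff_of_injective _ C.subtype_injective).mp h0
  refine CfsgLib.Components.generalizedFitting_eq_pCore_of_centralizer_le p
    (CfsgLib.Components.centralizer_pCore_le_of_no_component hOC fun K hK => ?_)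
  exact CfsgLib.Components.pLayer_eq_bot_iff.mp (hL a ha).1 _
    (CfsgLib.Components.isComponent_map_equiv
      (QuotientGroup.quotientBot.symm.trans (QuotientGroup.quotientMulEquivOfEq hOC.symm)) hK)

end CfsgLib.SignalizerConn42
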