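import Mathlib
import Cfsg.Prelude.Def_RootSubgroups
import Cfsg.Agent.Lib.RootGroups.RootInvolutions
import Cfsg.Agent.Lib.RootConnect.Reduce
import Cfsg.Agent.Lib.Involutions.BaerSuzuki

/-!
Towards the structure theorem for root involutions: for the members `W` isolated among the members
commuting with `d`, the square of a product of order four of two of them is a twin of `d`.
-/

set_option autoImplicit false

namespace CfsgLib.RootStructure74

open CfsgLib.Involutions CfsgLib.RootInvolutions

variable {G : Type*} [Group G] {D : Set G}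

/-! ### Conjugation by involutions -/

theorem cj_mul {a : G} (ha : a * a = 1) (x y : G) : a * (x * y) * a = a * x * a * (a * y * a) := by
  calc a * (x * y) * a = a * x * 1 * y * a := by group
    _ = a * x * (a * a) * y * a := by rw [ha]
    _ = a * x * a * (a * y * a) := by group

theorem cj_cj {a : G} (ha : a * a = 1) (x : G) : a * (a * x * a) * a = x := by
  calc a * (a * x * a) * a = (a * a) * x * (a * a) := by group
    _ = x := by rw [ha, one_mul, mul_one]

theorem cj_fix {a x : G} (ha : a * a = 1) (h : Commute a x) : a * x * a = x := by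
  rw [h.eq, mul_assoc, ha, mul_one]

theorem commute_of_fix {a x : G} (ha : a * a = 1) (h : a * x * a = x) : Commute a x := by
  show a * x = x * a
  calc a * x = a * x * (a * a) := by rw [ha, mul_one]
    _ = a * x * a * a := by group
    _ = x * a := by rw [h]

theorem cj_mul_of {a x y x' y' : G} (ha : a * a = 1) (h1 : a * x * a = x') (h2 : a * y * a = y') :
    a * (x * y) * a = x' * y' := by rw [cj_mul ha, h1, h2]

theorem cj_inj {a : G} (x y : G) (h : a * x * a = a * y * a) : x = y :=
  mul_left_cancel (mul_right_cancel h)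

theorem mul_mul_self {x y : G} (hy : y * y = 1) : x * y * y = x := by rw [mul_assoc, hy, mul_one]

theorem cj_comm {a x y : G} (ha : a * a = 1) (h : Commute x y) :
    Commute (a * x * a) (a * y * a) := by
  show a * x * a * (a * y * a) = a * y * a * (a * x * a)
  rw [← cj_mul ha, ← cj_mul ha, h.eq]

theorem cj_mem (hD : Cfsg.IsRootInvolutionSet D) {a x : G} (ha : a ∈ D) (hx : x ∈ D) :
    a * x * a ∈ D := by
  have h := hD.conj_mem x hx a
  rwa [root_inv hD ha] at h

theorem odd_symm (hD : Cfsg.IsRootInvolutionSet D) {a b : G} (ha : a ∈ D) (hb : b ∈ D)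
    (h : Odd (orderOf (a * b))) : Odd (orderOf (b * a)) := (odd_comm hD ha hb).mp h

theorem eq_of_comm_odd (hD : Cfsg.IsRootInvolutionSet D) {a b : G} (ha : a ∈ D) (hb : b ∈ D)
    (hc : Commute a b) (h : Odd (orderOf (a * b))) : b = a := by
  by_contra hne
  exact odd_not_commute hD ha hb hne h hc.eq

theorem four_of (hD : Cfsg.IsRootInvolutionSet D) {a b : G} (ha : a ∈ D) (hb : b ∈ D)
    (hc : ¬ Commute a b) (ho : ¬ Odd (orderOf (a * b))) : orderOf (a * b) = 4 := by
  rcases hD.pair a ha b hb with h | h | h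
  · exact absurd h hc
  · exact absurd h ho
  · exact h.1

/-- For a product of order four with square `c`: both factors fix `c` and move each other by `c`. -/
theorem four_cj (hD : Cfsg.IsRootInvolutionSet D) {a b c : G} (ha : a ∈ D) (hb : b ∈ D)
    (h4 : orderOf (a * b) = 4) (hc : (a * b) ^ 2 = c) :
    c ∈ D ∧ Commute c a ∧ Commute c b ∧ a * b * a = b * c ∧ b * a * b = a * c ∧
      a * c ∈ D ∧ b * c ∈ D ∧ (b * a) ^ 2 = c := by
  obtain ⟨h1, h2, h3, h5, h6, h7⟩ := four_facts hD ha hb h4
  subst hc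
  rw [root_inv hD hb] at h5
  rw [root_inv hD ha] at h6
  exact ⟨h1, h2, h3, h6.symm, h5.symm, h5 ▸ cj_mem hD hb ha, h6 ▸ cj_mem hD ha hb, h7⟩

theorem line_ne (hD : Cfsg.IsRootInvolutionSet D) {a b : G} (ha : a ∈ D) (h : a * b ∈ D) :
    a ≠ b := fun e => by
  subst e
  rw [root_mul_self hD ha] at h
  exact ne_one_of_involution (hD.orderOf_eq 1 h) rfl

theorem odd_split (hD : Cfsg.IsRootInvolutionSet D) {a e d : G} (ha : a ∈ D) (he : e ∈ D)
    (hd : d ∈ D) (hae : Commute a e) (hf : e * a ∈ D) (hne : a ≠ d)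
    (hodd : Odd (orderOf (a * d))) (h1 : ¬ Odd (orderOf (e * d))) :
    Odd (orderOf (e * a * d)) := by
  by_contra h2
  exact odd_partner_splits hD ha he hd hae.eq hf hne hodd h1 h2

/-- An involution centralising an odd pair cannot carry a member of the pair to a member. -/
theorem central_shift (hD : Cfsg.IsRootInvolutionSet D) {u x ζ : G} (hu : u ∈ D) (hx : x ∈ D)
    (hz2 : ζ * ζ = 1) (hzu : Commute ζ u) (hzx : Commute ζ x) (hm : ζ * u ∈ D) (hne : u ≠ x)
    (hodd : Odd (orderOf (u * x))) : ζ = 1 := by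
  have hc : Commute ζ (u * x) := hzu.mul_right hzx
  by_cases ho : Odd (orderOf (ζ * u * x))
  · rw [mul_assoc] at ho
    obtain ⟨m, hm⟩ := ho
    have hp := pow_orderOf_eq_one (ζ * (u * x))
    rw [hc.mul_pow, hm, pow_succ ζ, pow_mul ζ, pow_two, hz2, one_pow, one_mul] at hp
    have hee : ζ = ((u * x) ^ (2 * m + 1))⁻¹ := eq_inv_of_mul_eq_one_left hp
    have ho2 : Odd (orderOf ζ) := by
      rw [hee, orderOf_inv]; exact hodd.of_dvd_nat (orderOf_pow_dvd _)
    refine odd_four ?_ ho2
    rw [show (4 : ℕ) = 2 * 2 from rfl, pow_mul, pow_two ζ, hz2, one_pow]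
  · exfalso
    have key := not_odd_pow_four hD hm hx ho
    rw [mul_assoc, hc.mul_pow, show (4 : ℕ) = 2 * 2 from rfl, pow_mul ζ, pow_two ζ, hz2, one_pow,
      one_mul] at key
    exact hne (eq_of_mul_eq_one hD hu (odd_four key hodd)).symm

/-- `a` and `b` induce two different transvections on the line through `p` and `c`. -/
structure Cycle (a b p c : G) : Prop where
  a2 : a * a = 1
  b2 : b * b = 1
  p2 : p * p = 1
  c2 : c * c = 1
  comm : Commute p c
  ap : a * p * a = p
  ac : a * c * a = c * p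
  bc : b * c * b = c
  bp : b * p * b = p * c
  ne : p ≠ c

theorem Cycle.steps {a b p c : G} (h : Cycle a b p c) :
    (a * b) * p * (a * b)⁻¹ = c ∧ (a * b) * c * (a * b)⁻¹ = c * p ∧
      (a * b) * (c * p) * (a * b)⁻¹ = p := by
  have key : ∀ x : G, (a * b) * x * (a * b)⁻¹ = a * (b * x * b) * a := fun x => by
    rw [mul_inv_rev, inv_eq_of_mul_eq_one_right h.a2, inv_eq_of_mul_eq_one_right h.b2]
    group
  refine ⟨?_, ?_, ?_⟩
  · rw [key, h.bp, cj_mul_of h.a2 h.ap h.ac, ← mul_assoc, h.comm.eq, mul_assoc, h.p2, mul_one]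
  · rw [key, h.bc, h.ac]
  · rw [key, cj_mul_of h.b2 h.bc h.bp, show c * (p * c) = p by
      rw [← mul_assoc, ← h.comm.eq, mul_assoc, h.c2, mul_one], h.ap]

theorem Cycle.not_pow_four {a b p c : G} (h : Cycle a b p c) : (a * b) ^ 4 ≠ 1 := by
  intro h4
  obtain ⟨s1, s2, s3⟩ := h.steps
  refine h.ne ?_
  calc p = (a * b) ^ 4 * p * ((a * b) ^ 4)⁻¹ := by rw [h4]; group
    _ = (a * b) * ((a * b) * ((a * b) * ((a * b) * p * (a * b)⁻¹) * (a * b)⁻¹) * (a * b)⁻¹) *
          (a * b)⁻¹ := by simp only [pow_succ, pow_zero, one_mul, mul_inv_rev, mul_assoc]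
    _ = c := by rw [s1, s2, s3, s1]

theorem Cycle.odd (hD : Cfsg.IsRootInvolutionSet D) {a b p c : G} (h : Cycle a b p c) (ha : a ∈ D)
    (hb : b ∈ D) : Odd (orderOf (a * b)) := by
  by_contra ho
  exact h.not_pow_four (not_odd_pow_four hD ha hb ho)

theorem Cycle.ne' {a b p c : G} (h : Cycle a b p c) : a ≠ b := fun e => by
  have h4 := h.not_pow_four
  rw [← e, h.a2, one_pow] at h4
  exact h4 rfl

/-- If moreover `a p` is a member, the product has order three. -/
theorem Cycle.braid (hD : Cfsg.IsRootInvolutionSet D) {a b p c : G} (h : Cycle a b p c) (ha : a ∈ D)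
    (hb : b ∈ D) (hp : p ∈ D) (hap : a * p ∈ D) : a * b * a = b * a * b := by
  obtain ⟨s1, s2, s3⟩ := h.steps
  have hodd := h.odd hD ha hb
  have hne := h.ne'
  have hpa : Commute p a := (commute_of_fix h.a2 h.ap).symm
  set u := a * b with hu
  have hfix : u ^ 3 * p * (u ^ 3)⁻¹ = p := by
    calc u ^ 3 * p * (u ^ 3)⁻¹ = u * (u * (u * p * u⁻¹) * u⁻¹) * u⁻¹ := by
          simp only [pow_succ, pow_zero, one_mul, mul_inv_rev, mul_assoc]
      _ = p := by rw [s1, s2, s3]
  have hau : a * u * a⁻¹ = u⁻¹ := by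
    rw [hu, mul_inv_rev, root_inv hD ha, root_inv hD hb, ← mul_assoc, h.a2, one_mul]
  have hau3 : a * u ^ 3 * a⁻¹ = (u ^ 3)⁻¹ := by rw [← conj_pow, hau, inv_pow]
  set a' := u ^ 3 * a * (u ^ 3)⁻¹ with ha'
  have hpa' : p * a' = a' * p := by
    have h1 : Commute p (u ^ 3) :=
      (show u ^ 3 * p = p * u ^ 3 from mul_inv_eq_iff_eq_mul.mp hfix).symm
    exact ((h1.mul_right hpa).mul_right h1.inv_right).eq
  have haa' : a * a' = (u ^ 6)⁻¹ := by
    calc a * a' = (a * u ^ 3 * a⁻¹) * (a * a) * (u ^ 3)⁻¹ := by rw [ha']; group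
      _ = (u ^ 6)⁻¹ := by rw [hau3, h.a2, mul_one, ← mul_inv_rev, ← pow_add]
  have heq : a' = a := by
    by_contra hne'
    refine common_commuting hD ha hp (hD.conj_mem a ha _) hpa.symm.eq ?_
      hpa' (Ne.symm hne') ?_
    · rw [hpa.eq]; exact hap
    · rw [haa', orderOf_inv]; exact hodd.of_dvd_nat (orderOf_pow_dvd _)
  have h6 : u ^ 6 = 1 := by
    rw [heq, h.a2, eq_comm, inv_eq_one] at haa'
    exact haa'
  have h3 : u ^ 3 = 1 := by
    refine odd_four (x := u ^ 3) ?_ (hodd.of_dvd_nat (orderOf_pow_dvd _))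
    rw [← pow_mul, show 3 * 4 = 6 * 2 from rfl, pow_mul, h6, one_pow]
  calc a * b * a = u ^ 3 * (b⁻¹ * a⁻¹ * b⁻¹) := by
        simp only [hu, pow_succ, pow_zero, one_mul]; group
    _ = b * a * b := by rw [h3, one_mul, root_inv hD ha, root_inv hD hb]

/-- Conjugation by the two sides of a braid relation. -/
theorem braid_apply {a b : G} (h : a * b * a = b * a * b) (x : G) :
    a * (b * (a * x * a) * b) * a = b * (a * (b * x * b) * a) * b := by
  calc a * (b * (a * x * a) * b) * a = (a * b * a) * x * (a * b * a) := by group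
    _ = (b * a * b) * x * (b * a * b) := by rw [h]
    _ = b * (a * (b * x * b) * a) * b := by group

/-- With `v` commuting with `d` and `v d` a member, the image of `d` under the braid is forced. -/
theorem six (hD : Cfsg.IsRootInvolutionSet D) {a v d g : G} (ha : a ∈ D) (hv : v ∈ D) (hd : d ∈ D)
    (hg : g ∈ D) (hbr : v * a * v = a * v * a) (hvd : Commute v d) (hvdD : v * d ∈ D)
    (had : a * d * a = d * g) (hag : Commute a g) (hdg : Commute d g)
    (hgy : Commute g (v * g * v)) (hodd : Odd (orderOf (v * a))) (hne : v ≠ a)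
    (hda : ¬ Odd (orderOf (d * a))) : v * g * v = g * d := by
  have haa := root_mul_self hD ha
  have hvv := root_mul_self hD hv
  have hdd := root_mul_self hD hd
  have hgg := root_mul_self hD hg
  set y := v * g * v with hy
  have hyy : y * y = 1 := by rw [hy, ← cj_mul hvv, hgg, mul_one, hvv]
  have e := braid_apply hbr d
  rw [cj_fix hvv hvd, had, cj_mul_of hvv (cj_fix hvv hvd) hy.symm,
    cj_mul_of haa had rfl, mul_assoc] at e
  have e1 : y = g * (a * y * a) := mul_left_cancel e
  have e2 : a * y * a = g * y := by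
    conv_rhs => rw [e1]
    exact (by rw [← mul_assoc g g, hgg, one_mul] : g * (g * (a * y * a)) = a * y * a).symm
  set f := g * y with hf
  have hga : a * g * a = g := cj_fix haa hag
  have hfa : a * f * a = g * f := by rw [hf, cj_mul_of haa hga e2]
  have hvf : v * f * v = f := by
    rw [hf, cj_mul_of hvv hy.symm (by rw [hy, cj_cj hvv]), hgy.eq]
  have hdy : Commute d y := by
    have h1 := cj_comm hvv hdg
    rwa [cj_fix hvv hvd] at h1
  have hdf : Commute d f := hdg.mul_right hdy
  have hff : f * f = 1 := by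
    rw [hf, show g * y * (g * y) = g * (y * g) * y by group, ← hgy.eq,
      show g * (g * y) * y = g * g * (y * y) by group, hgg, hyy, one_mul]
  set m := d * f with hm
  have hma : Commute a m := commute_of_fix haa (by
    rw [hm, cj_mul_of haa had hfa, show d * g * (g * f) = d * (g * g) * f by group, hgg, mul_one])
  have hvm : Commute v m := hvd.mul_right (commute_of_fix hvv hvf)
  have hmd : Commute m d := ((Commute.refl d).mul_right hdf).symm
  have hm2 : m * m = 1 := by
    rw [hm, show d * f * (d * f) = d * (f * d) * f by group, ← hdf.eq,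
      show d * (d * f) * f = d * d * (f * f) by group, hdd, hff, one_mul]
  have hdvD : d * v ∈ D := by rw [← hvd.eq]; exact hvdD
  have hne2 : d * v ≠ a := fun h => by
    have h2 : Commute d a := by rw [← h]; exact (Commute.refl d).mul_right hvd.symm
    have := cj_fix haa h2.symm
    rw [had] at this
    exact ne_one_of_involution (hD.orderOf_eq g hg) (mul_eq_left.mp this)
  have h1 : m = 1 := by
    refine central_shift hD hdvD ha hm2 (hmd.mul_right hvm.symm) hma.symm ?_ hne2
      (odd_split hD hv hd ha hvd hdvD hne hodd hda)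
    have e3 : m * (d * v) = g * v * g := by
      rw [hm, hdf.eq, show f * d * (d * v) = f * (d * d) * v by group, hdd, mul_one, hf, hy,
        show g * (v * g * v) * v = g * v * g * (v * v) by group, hvv, mul_one]
    rw [e3]; exact cj_mem hD hg hv
  have h2 : f = d := eq_of_mul_eq_one hD hd (hm.symm.trans h1)
  rw [hf] at h2
  calc y = g * (g * y) := by rw [← mul_assoc, hgg, one_mul]
    _ = g * d := by rw [h2]

/-! ### The members isolated among those commuting with `d` -/

variable (D) in
/-- A member commuting with `d` that has no odd partner among those members. -/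
structure IsW (d w : G) : Prop where
  memD : w ∈ D
  comm : Commute w d
  nonodd : ∀ {y : G}, y ∈ D → Commute y d → y ≠ w → ¬ Odd (orderOf (w * y))

variable (D) in
/-- The union of the product partners of the members with the commuting members of `d`. -/
def Xs (d : G) : Set G :=
  {y | ∃ e ∈ Cfsg.sameCommutingClass D d, y ∈ Cfsg.productPartners D e}

variable {d : G}

theorem isW_iff (hD : Cfsg.IsRootInvolutionSet D) {w : G} :
    Cfsg.IsIsolatedElem (Cfsg.OddAdj (Cfsg.commutingMembers D d)) (Cfsg.commutingMembers D d) w ↔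
      IsW D d w :=
  ⟨fun h => ⟨h.1.1, h.1.2, fun hy hc hne ho => (h.2 _).1 ⟨h.1, ⟨hy, hc⟩, hne.symm, ho⟩⟩,
    fun h => ⟨⟨h.memD, h.comm⟩, fun b =>
      ⟨fun hb => h.nonodd hb.2.1.1 hb.2.1.2 hb.2.2.1.symm hb.2.2.2,
        fun hb => h.nonodd hb.1.1 hb.1.2 hb.2.2.1 (odd_symm hD hb.1.1 h.memD hb.2.2.2)⟩⟩⟩

theorem IsW.four (hD : Cfsg.IsRootInvolutionSet D) {w y : G} (h : IsW D d w) (hy : y ∈ D)
    (hc : Commute y d) (hn : ¬ Commute w y) : orderOf (w * y) = 4 :=
  four_of hD h.memD hy hn (h.nonodd hy hc fun e => hn (e ▸ Commute.refl w))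

theorem twin_iff {e y : G} (he : e ∈ Cfsg.sameCommutingClass D d) (hy : y ∈ D) :
    Commute y e ↔ Commute y d := by
  constructor
  · intro h
    have h1 : y ∈ Cfsg.commutingMembers D d := he.2.symm ▸ (⟨hy, h⟩ : y ∈ Cfsg.commutingMembers D e)
    exact h1.2
  · intro h
    have h1 : y ∈ Cfsg.commutingMembers D e := he.2 ▸ (⟨hy, h⟩ : y ∈ Cfsg.commutingMembers D d)
    exact h1.2

/-- Members of `W` commute with the twins of `d`. -/
theorem IsW.comm_twin {w e : G} (h : IsW D d w) (he : e ∈ Cfsg.sameCommutingClass D d) :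
    Commute w e :=
  (twin_iff he h.memD).mpr h.comm

theorem IsW.congr {e w : G} (he : e ∈ Cfsg.sameCommutingClass D d) (h : IsW D e w) : IsW D d w :=
  ⟨h.memD, (twin_iff he h.memD).mp h.comm, fun hy hc => h.nonodd hy ((twin_iff he hy).mpr hc)⟩

theorem E_congr {e : G} (he : e ∈ Cfsg.sameCommutingClass D d) :
    Cfsg.sameCommutingClass D e = Cfsg.sameCommutingClass D d := by
  unfold Cfsg.sameCommutingClass; rw [he.2]

theorem Xs_congr {e : G} (he : e ∈ Cfsg.sameCommutingClass D d) : Xs D e = Xs D d := by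
  unfold Xs; rw [E_congr he]

theorem self_mem_E {d : G} (hd : d ∈ D) : d ∈ Cfsg.sameCommutingClass D d := ⟨hd, rfl⟩

theorem Xs.subset (hD : Cfsg.IsRootInvolutionSet D) {y : G} (hy : y ∈ Xs D d) : IsW D d y := by
  obtain ⟨e, he, ⟨⟨hyD, hye, hne⟩, hp⟩⟩ := hy
  refine ⟨hyD, (twin_iff he hyD).mp hye, fun {p} hp' hpc hpne ho => ?_⟩
  refine common_commuting hD hyD he.1 hp' hye ?_ ((twin_iff he hp').mpr hpc).symm.eq hpne.symm ho
  rw [← hye]; exact hp

/-- A square of a product of order four from `W` lies in `W`. -/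
theorem IsW.sq (hD : Cfsg.IsRootInvolutionSet D) {u v z : G} (hu : IsW D d u) (hv : IsW D d v)
    (h4 : orderOf (u * v) = 4) (hz : (u * v) ^ 2 = z) : IsW D d z := by
  obtain ⟨hzD, hzu, hzv, huv, -, -, hvzD, -⟩ := four_cj hD hu.memD hv.memD h4 hz
  have hzd : Commute z d := hz ▸ (hu.comm.mul_left hv.comm).pow_left 2
  refine ⟨hzD, hzd, fun {y} hy hyd hne ho => ?_⟩
  have h1 : y ≠ v := fun e => by
    subst e
    exact hne (eq_of_comm_odd hD hzD hy hzv ho)
  have h3 : v * z ≠ y := fun e => hne (eq_of_comm_odd hD hzD hy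
    (e ▸ hzv.mul_right (Commute.refl z)) ho)
  have h2 : ¬ Odd (orderOf (v * z * y)) := by
    rw [← huv]
    intro h
    have hu2 := root_mul_self hD hu.memD
    have hud : Commute u d := hu.comm
    refine hv.nonodd (y := u * y * u) (cj_mem hD hu.memD hy) ((hud.mul_left hyd).mul_left hud)
      (fun e => h3 ?_) ?_
    · rw [← huv, ← e, cj_cj hu2]
    · have e : v * (u * y * u) = u * (u * v * u * y) * u⁻¹ := by
        rw [root_inv hD hu.memD, show u * (u * v * u * y) * u = u * u * v * (u * y * u) by group,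
          hu2, one_mul]
      rw [e, orderOf_conj_eq]; exact h
  exact odd_partner_splits hD hzD hv.memD hy hzv.eq hvzD hne.symm ho
    (hv.nonodd hy hyd h1) h2

variable (D) in
/-- All squares of products of order four with a member of `Xs` are twins of `d`. -/
def Good (d z : G) : Prop :=
  ∀ y ∈ Xs D d, orderOf (z * y) = 4 → (z * y) ^ 2 ∈ Cfsg.sameCommutingClass D d

variable [Finite G]

theorem not_twin_of {z y : G} (hy : IsW D d y) (h : ¬ Commute z y) :
    z ∉ Cfsg.sameCommutingClass D d := fun hz => h (hy.comm_twin hz).symm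

theorem twin_of_conn (hD : Cfsg.IsRootInvolutionSet D)
    (hc : Cfsg.IsConnectedSet (Cfsg.OddAdj D) D) {b t : G} (hb : b ∈ D) (ht : t ∈ D)
    (h : Cfsg.oddPartners D b ⊆ Cfsg.oddPartners D t) :
    Cfsg.commutingMembers D b = Cfsg.commutingMembers D t :=
  (sameCommuting_iff_oddPartners hD hc hb ht).mpr (oddPartners_eq_of_subset hD hc hb ht h)

/-- For a line through `p` and `c`, `c` not a twin of `p`, some member moves `p` to `p c`. -/
theorem exists_move (hD : Cfsg.IsRootInvolutionSet D)
    (hc : Cfsg.IsConnectedSet (Cfsg.OddAdj D) D) {p c : G} (hp : p ∈ D) (hcD : c ∈ D)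
    (hpc : Commute c p) (hcp : c * p ∈ D)
    (hne : Cfsg.commutingMembers D p ≠ Cfsg.commutingMembers D c) :
    ∃ a ∈ D, orderOf (p * a) = 4 ∧ (p * a) ^ 2 = c ∧ a * p * a = p * c ∧ Commute a c ∧
      a * c ∈ D := by
  obtain ⟨r, hr, hrc⟩ := Set.not_subset.mp fun h => hne (twin_of_conn hD hc hp hcD h)
  have hcr : ¬ Odd (orderOf (c * r)) := fun ho => hrc ⟨hr.1, fun e => by
    subst e
    exact odd_not_commute hD hp hr.1 hr.2.1 hr.2.2 hpc.symm.eq, ho⟩
  obtain ⟨a, ha, h4, h2⟩ := exists_reverse hD hp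
    ⟨⟨hcD, hpc.eq, fun e => hne (by rw [e])⟩, hcp⟩ hr hcr
  obtain ⟨-, -, hca, -, hap, -, haD, -⟩ := four_cj hD hp ha h4 h2
  exact ⟨a, ha, h4, h2, hap, hca.symm, haD⟩

/-- The twins of `d` have product of order four with every member that has so with `d`. -/
theorem four_twin (hD : Cfsg.IsRootInvolutionSet D)
    (hc : Cfsg.IsConnectedSet (Cfsg.OddAdj D) D) (hd : d ∈ D) {a e : G} (ha : a ∈ D)
    (he : e ∈ Cfsg.sameCommutingClass D d) (h4 : orderOf (a * d) = 4) :
    orderOf (a * e) = 4 := by
  have hn : ¬ Commute a e := fun h =>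
    CfsgLib.RootConnect.not_commute_of_four hD ha hd h4 ((twin_iff he ha).mp h).eq
  refine four_of hD ha he.1 hn fun ho => ?_
  have h1 : a ∈ Cfsg.oddPartners D e :=
    ⟨ha, fun h => hn (h ▸ Commute.refl a), odd_symm hD ha he.1 ho⟩
  rw [← (sameCommuting_iff_oddPartners hD hc hd he.1).mp he.2] at h1
  exact four_not_odd h4 (odd_symm hD hd ha h1.2.2)

/-- A member of `W` commuting with `v` cannot move the square `z` of `(u v)` by a twin. -/
theorem core (hD : Cfsg.IsRootInvolutionSet D) (hc : Cfsg.IsConnectedSet (Cfsg.OddAdj D) D)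
    {u v z w e : G} (hu : IsW D d u) (hv : IsW D d v)
    (h4 : orderOf (u * v) = 4) (hz : (u * v) ^ 2 = z) (hw : IsW D d w) (hwv : Commute w v)
    (hzw : orderOf (z * w) = 4) (he : (z * w) ^ 2 = e)
    (heE : e ∈ Cfsg.sameCommutingClass D d) : False := by
  have huD := hu.memD
  have hvD := hv.memD
  have hwD := hw.memD
  have hzW := hu.sq hD hv h4 hz
  obtain ⟨hzD, hzu, hzv, huv, -, -, hvzD, -⟩ := four_cj hD huD hvD h4 hz
  obtain ⟨-, hez, hew, hzwz, -, -, hweD, -⟩ := four_cj hD hzD hwD hzw he
  have hzwn : ¬ Commute z w := fun h => CfsgLib.RootConnect.not_commute_of_four hD hzD hwD hzw h.eq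
  have hwne : w ≠ e := fun h => hzwn (h ▸ hzW.comm_twin heE)
  have hne : Cfsg.commutingMembers D e ≠ Cfsg.commutingMembers D w := fun h =>
    not_twin_of hzW (fun hh => hzwn hh.symm) ⟨hwD, heE.2.trans h⟩
  obtain ⟨q, hq, hq4, hq2, hqe, hqw, hqwD⟩ :=
    exists_move hD hc heE.1 hwD hew.symm hweD hne
  have hzz := root_mul_self hD hzD
  have hqq := root_mul_self hD hq
  have hvv := root_mul_self hD hvD
  have huu := root_mul_self hD huD
  have hee := root_mul_self hD heE.1
  have hww := root_mul_self hD hwD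
  have hcyc : Cycle q z w e := ⟨hqq, hzz, hww, hee, hew.symm, cj_fix hqq hqw, hqe,
    cj_fix hzz hez.symm, hzwz, hwne⟩
  have hqz := hcyc.odd hD hq hzD
  have hqzne := hcyc.ne'
  have hbr := hcyc.braid hD hq hzD hwD hqwD
  have hqve : ¬ Commute q e := fun h => by
    have := cj_fix hqq h
    rw [hqe] at this
    exact ne_one_of_involution (hD.orderOf_eq w hwD) (mul_eq_left.mp this)
  have hvz : v * z ∈ D := hvzD
  have hqv : orderOf (v * q) = 4 := by
    refine four_of hD hvD hq (fun h => ?_) fun ho => ?_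
    · exact common_commuting hD hzD hvD hq hzv.eq hvz h.eq hqzne.symm (odd_symm hD hq hzD hqz)
    · refine common_commuting hD hq hwD hvD hqw.eq ?_ hwv.eq (fun e' => ?_)
        (odd_symm hD hvD hq ho)
      · rw [← hqw.eq]; exact hqwD
      · exact hqve (e' ▸ hv.comm_twin heE)
  obtain ⟨haD, hav, haq, hvqv, hqvq, -, -, -⟩ := four_cj hD hvD hq hqv rfl
  set a := (v * q) ^ 2 with ha
  have hve : v * e * v = e := cj_fix hvv (hv.comm_twin heE)
  have hvw : v * w * v = w := cj_fix hvv hwv.symm
  have hqw' : q * w * q = w := cj_fix hqq hqw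
  have hae : Commute a e := by
    refine commute_of_fix (root_mul_self hD haD) ?_
    have haa' : a = v * q * v * q := by rw [ha, pow_two]; group
    have haa'' : a = q * v * q * v := by
      rw [ha, ← (four_facts hD hvD hq hqv).2.2.2.2.2, pow_two]; group
    calc a * e * a = (v * q * v * q) * e * (q * v * q * v) := by nth_rw 1 [haa']; rw [haa'']
      _ = v * (q * (v * (q * e * q) * v) * q) * v := by group
      _ = e := by
          rw [hqe, cj_mul_of hvv hve hvw, cj_mul_of hqq hqe hqw', mul_mul_self hww, hve]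
  have had : Commute a d := (twin_iff heE haD).mp hae
  have hzne : a ≠ z := fun h => by
    have h1 : Commute z q := h ▸ haq
    exact odd_not_commute hD hq hzD hqzne.symm hqz h1.symm.eq
  have hqaD : a * q ∈ D := by
    rw [haq.eq, show q * a = v * q * v from hvqv.symm]; exact cj_mem hD hvD hq
  have haz : orderOf (a * z) = 4 := by
    refine four_of hD haD hzD (fun h => ?_)
      fun ho => hzW.nonodd haD had hzne (odd_symm hD haD hzD ho)
    exact common_commuting hD hq haD hzD haq.symm.eq hqaD h.eq hqzne hqz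
  obtain ⟨hc0D, hc0a, hc0z, haza, -, -, hzc0D, -⟩ := four_cj hD haD hzD haz rfl
  set c0 := (a * z) ^ 2 with hc0
  set b := z * a * z with hb
  have haa := root_mul_self hD haD
  have hc0ab : c0 = a * b := by rw [hc0, hb, pow_two]; group
  have hzvz : z * v * z = v := cj_fix hzz hzv
  have hqaq : q * a * q = a := cj_fix hqq haq.symm
  have hb2 : q * b * q = a * b := by
    have e1 : b = v * (q * z * q) * v * (q * z * q) := by
      calc b = z * (v * q * v * q) * z := by rw [hb, ha, pow_two]; group
        _ = (z * v * z) * (z * q * z) * (z * v * z) * (z * q * z) := by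
            simp only [mul_assoc]; simp [← mul_assoc z z, hzz]
        _ = v * (q * z * q) * v * (q * z * q) := by rw [hzvz, ← hbr]
    have e2 : b = q * (a * b) * q := by
      calc b = v * (q * z * q) * v * (q * z * q) := e1
        _ = (v * q) * z * (q * v * q) * z * q := by group
        _ = (v * q) * z * (v * a) * z * q := by rw [hqvq]
        _ = v * q * (z * v * z) * (z * a * z) * q := by
            simp only [mul_assoc]; simp [← mul_assoc z z, hzz]
        _ = (v * q * v) * b * q := by rw [hzvz, hb]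
        _ = q * (a * b) * q := by rw [hvqv]; group
    conv_lhs => rw [e2]
    exact cj_cj hqq _
  set m := v * c0 with hm
  have hvc0 : Commute v c0 := by
    rw [hc0]; exact (hav.symm.mul_right hzv.symm).pow_right 2
  have hmm : m * m = 1 := by
    rw [hm, show v * c0 * (v * c0) = v * (c0 * v) * c0 by group, ← hvc0.eq,
      show v * (v * c0) * c0 = v * v * (c0 * c0) by group, hvv, root_mul_self hD hc0D, one_mul]
  have hmz : Commute m z := hzv.symm.mul_left hc0z
  have hmv : Commute m v := (Commute.refl v).mul_left hvc0.symm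
  have hmq : Commute m q := by
    refine (commute_of_fix hqq ?_).symm
    rw [hm, cj_mul_of hqq hqvq (by rw [hc0ab, cj_mul_of hqq hqaq hb2, ← mul_assoc, haa, one_mul]),
      hc0ab]
    group
  have hvzne : v * z ≠ q := fun h => by
    have h1 : Commute z q := h ▸ hzv.mul_right (Commute.refl z)
    exact odd_not_commute hD hq hzD hqzne.symm hqz h1.symm.eq
  have hm1 : m = 1 := by
    refine central_shift hD hvz hq hmm (hmv.mul_right hmz) hmq ?_ hvzne
      (odd_split hD hzD hvD hq hzv hvz hqzne.symm (odd_symm hD hq hzD hqz) (four_not_odd hqv))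
    have e1 : m * (v * z) = z * c0 := by
      rw [hm, hvc0.eq, show c0 * v * (v * z) = c0 * (v * v) * z by group, hvv, mul_one, hc0z.eq]
    rw [e1]; exact hzc0D
  have hc0v : c0 = v := eq_of_mul_eq_one hD hvD (hm.symm.trans hm1)
  rw [hc0v] at haza
  have hcyc2 : Cycle u a z v := ⟨huu, haa, hzz, hvv, hzv, cj_fix huu hzu.symm, huv,
    cj_fix haa hav, haza, fun e' => line_ne hD hvD hvz e'.symm⟩
  exact hu.nonodd haD had hcyc2.ne'.symm (hcyc2.odd hD huD haD)

/-- Members of `Xs` commuting with `v` commute with the square `z` of `(u v)`, if `z` is good. -/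
theorem commute_of_commute (hD : Cfsg.IsRootInvolutionSet D)
    (hc : Cfsg.IsConnectedSet (Cfsg.OddAdj D) D) {u v z y : G}
    (hu : IsW D d u) (hv : IsW D d v) (h4 : orderOf (u * v) = 4) (hz : (u * v) ^ 2 = z)
    (hgood : Good D d z) (hy : y ∈ Xs D d) (hyv : Commute y v) : Commute y z := by
  by_contra hn
  have hyW := Xs.subset hD hy
  have hzW := hu.sq hD hv h4 hz
  have h4' := hzW.four hD hyW.memD hyW.comm fun h => hn h.symm
  exact core hD hc hu hv h4 hz hyW hyv h4' rfl (hgood y hy h4')

end CfsgLib.RootStructure74
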