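import Cfsg.Agent.Lib.RootStructure74

/-!
The square of a product of order four of a member of `W` and a member of `Xs` is a twin of `d`.
-/

set_option autoImplicit false

namespace CfsgLib.RootStructure74

open CfsgLib.Involutions CfsgLib.RootInvolutions
open scoped commutatorElement

variable {G : Type*} [Group G] {D : Set G} {d : G}

theorem IsW.conj (hD : Cfsg.IsRootInvolutionSet D) {g w : G} (hg : Commute g d)
    (hw : IsW D d w) : IsW D d (g * w * g⁻¹) := by
  refine ⟨hD.conj_mem w hw.memD g, (hg.mul_left hw.comm).mul_left hg.inv_left,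
    fun {y} hy hyd hne ho => ?_⟩
  refine hw.nonodd (y := g⁻¹ * y * g) ?_ ((hg.inv_left.mul_left hyd).mul_left hg)
    (fun e => hne ?_) ?_
  · have h := hD.conj_mem y hy g⁻¹
    rwa [inv_inv] at h
  · rw [← e]; group
  · have e : g * (w * (g⁻¹ * y * g)) * g⁻¹ = g * w * g⁻¹ * y := by group
    rw [← e, orderOf_conj_eq] at ho
    exact ho

theorem self_isW (hD : Cfsg.IsRootInvolutionSet D) (hd : d ∈ D) : IsW D d d :=
  ⟨hd, Commute.refl d, fun hy hc hne ho => hne (eq_of_comm_odd hD hd hy hc.symm ho)⟩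

theorem twin_isW (hD : Cfsg.IsRootInvolutionSet D) {e : G}
    (he : e ∈ Cfsg.sameCommutingClass D d) : IsW D d e := (self_isW hD he.1).congr he

theorem IsW.comm_K {w x : G} (hw : IsW D d w) (hx : x ∈ Cfsg.sameCommutingSubgroup D d) :
    Commute w x := by
  induction hx using Subgroup.closure_induction with
  | mem y hy => exact hw.comm_twin hy
  | one => exact Commute.one_right w
  | mul p q _ _ hp hq => exact hp.mul_right hq
  | inv p _ hp => exact hp.inv_right

theorem K_comm (hD : Cfsg.IsRootInvolutionSet D) {x y : G}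
    (hx : x ∈ Cfsg.sameCommutingSubgroup D d) (hy : y ∈ Cfsg.sameCommutingSubgroup D d) :
    Commute x y := by
  induction hx using Subgroup.closure_induction with
  | mem p hp => exact (twin_isW hD hp).comm_K hy
  | one => exact Commute.one_left y
  | mul p q _ _ hp hq => exact hp.mul_left hq
  | inv p _ hp => exact hp.inv_left

theorem K_cases (hE : (Cfsg.sameCommutingSubgroup D d : Set G) = Cfsg.sameCommutingClass D d ∪ {1})
    {x : G} (hx : x ∈ Cfsg.sameCommutingSubgroup D d) (h1 : x ≠ 1) :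
    x ∈ Cfsg.sameCommutingClass D d := by
  have h : x ∈ (Cfsg.sameCommutingSubgroup D d : Set G) := hx
  rw [hE] at h
  exact h.resolve_right h1

theorem mem_K {x : G} (hx : x ∈ Cfsg.sameCommutingClass D d) :
    x ∈ Cfsg.sameCommutingSubgroup D d := Subgroup.subset_closure hx

theorem commuting_conj (hD : Cfsg.IsRootInvolutionSet D) (a g : G) :
    Cfsg.commutingMembers D (g * a * g⁻¹) = (fun x => g * x * g⁻¹) '' Cfsg.commutingMembers D a := by
  have key : ∀ (a g : G) {b : G}, b ∈ Cfsg.commutingMembers D a →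
      g * b * g⁻¹ ∈ Cfsg.commutingMembers D (g * a * g⁻¹) := fun a g b hb => ⟨hD.conj_mem b hb.1 g, by
    calc g * b * g⁻¹ * (g * a * g⁻¹) = g * (b * a) * g⁻¹ := by group
      _ = g * (a * b) * g⁻¹ := by rw [hb.2]
      _ = g * a * g⁻¹ * (g * b * g⁻¹) := by group⟩
  ext x
  constructor
  · intro hx
    refine ⟨g⁻¹ * x * g, ?_, by group⟩
    have := key _ g⁻¹ hx
    rw [show g⁻¹ * (g * a * g⁻¹) * g⁻¹⁻¹ = a by group, inv_inv] at this
    exact this
  · rintro ⟨b, hb, rfl⟩
    exact key a g hb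

/-- An element moving `d` to a twin of `d` maps `Xs` into itself. -/
theorem Xs_conj (hD : Cfsg.IsRootInvolutionSet D) {h : G}
    (hh : h * d * h⁻¹ ∈ Cfsg.sameCommutingClass D d) {y : G} (hy : y ∈ Xs D d) :
    h * y * h⁻¹ ∈ Xs D d := by
  obtain ⟨e, he, ⟨⟨hyD, hye, hne⟩, hp⟩⟩ := hy
  refine ⟨h * e * h⁻¹, ⟨hD.conj_mem e he.1 h, ?_⟩, ⟨hD.conj_mem y hyD h, ?_, ?_⟩, ?_⟩
  · rw [hh.2, commuting_conj hD d h, commuting_conj hD e h, he.2]
  · calc h * y * h⁻¹ * (h * e * h⁻¹) = h * (y * e) * h⁻¹ := by group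
      _ = h * (e * y) * h⁻¹ := by rw [hye]
      _ = h * e * h⁻¹ * (h * y * h⁻¹) := by group
  · simpa using hne
  · rw [show h * y * h⁻¹ * (h * e * h⁻¹) = h * (y * e) * h⁻¹ by group]
    exact hD.conj_mem _ hp h

variable [Finite G]

set_option maxHeartbeats 1000000 in
/-- The case where the twin image of `d` moves the square. -/
theorem case_move (hD : Cfsg.IsRootInvolutionSet D) (hc : Cfsg.IsConnectedSet (Cfsg.OddAdj D) D)
    (hE : (Cfsg.sameCommutingSubgroup D d : Set G) = Cfsg.sameCommutingClass D d ∪ {1})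
    (hd : d ∈ D) {u v z a t : G} (hu : IsW D d u) (hv : IsW D d v)
    (h4 : orderOf (u * v) = 4) (hz : (u * v) ^ 2 = z)
    (hgood : Good D d z) (hvdD : v * d ∈ D) (ha : a ∈ D)
    (had4 : orderOf (a * d) = 4) (hat : (a * d) ^ 2 = t) (hbr : v * a * v = a * v * a)
    (hva : Odd (orderOf (v * a))) (hne : v ≠ a) (hvt : v * t * v = t * d)
    (hzt : orderOf (z * t) = 4) : False := by
  have huD := hu.memD
  have hvD := hv.memD
  have huu := root_mul_self hD huD
  have hvv := root_mul_self hD hvD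
  have haa := root_mul_self hD ha
  have hdd := root_mul_self hD hd
  have hzW := hu.sq hD hv h4 hz
  have hzD := hzW.memD
  have hzz := root_mul_self hD hzD
  obtain ⟨-, hzu, hzv, huv, -, -, hvzD, -⟩ := four_cj hD huD hvD h4 hz
  have hzud : u * d * u = d := cj_fix huu hu.comm
  -- the map `γ`
  let K := Cfsg.sameCommutingSubgroup D d
  have hdK : d ∈ K := mem_K (self_mem_E hd)
  let γ : G → G := fun f => f * (a * f * a)
  let A : G → Prop := fun f => f ∈ K ∧ (f = 1 ∨ v * f ∈ D)
  have hAd : A d := ⟨hdK, Or.inr hvdD⟩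
  have hA1 : A 1 := ⟨one_mem _, Or.inl rfl⟩
  have hγ1 : γ 1 = 1 := by show 1 * (a * 1 * a) = 1; rw [one_mul, mul_one, haa]
  have hKK : ∀ f ∈ K, f * f = 1 := fun f hf => by
    by_cases h : f = 1
    · rw [h, one_mul]
    · exact root_mul_self hD (K_cases hE hf h).1
  have hγfour : ∀ f ∈ Cfsg.sameCommutingClass D d, orderOf (a * f) = 4 ∧ γ f = (a * f) ^ 2 := by
    intro f hf
    have h4' := four_twin hD hc hd ha hf had4
    obtain ⟨-, -, hcf, e1, -, -, -, -⟩ := four_cj hD ha hf.1 h4' rfl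
    refine ⟨h4', ?_⟩
    show f * (a * f * a) = _
    rw [e1, ← mul_assoc, root_mul_self hD hf.1, one_mul]
  have hγX : ∀ f ∈ Cfsg.sameCommutingClass D d, γ f ∈ Xs D d := by
    intro f hf
    obtain ⟨h4', hg⟩ := hγfour f hf
    obtain ⟨hgD, -, hgf, -, -, -, hfgD, -⟩ := four_cj hD ha hf.1 h4' hg.symm
    refine ⟨f, hf, ⟨⟨hgD, hgf.eq, fun e => ?_⟩, by rw [hgf.eq]; exact hfgD⟩⟩
    rw [e] at hfgD
    exact line_ne hD hf.1 hfgD rfl
  have hγt : γ d = t := (hγfour d (self_mem_E hd)).2.trans hat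
  have haf : ∀ f ∈ K, a * f * a = f * γ f := fun f hf => by
    show a * f * a = f * (f * (a * f * a))
    rw [← mul_assoc, hKK f hf, one_mul]
  have hγK : ∀ f ∈ K, ∀ k ∈ K, Commute (γ f) k := by
    intro f hf k hk
    by_cases h : f = 1
    · rw [h, hγ1]; exact Commute.one_left k
    · exact (Xs.subset hD (hγX f (K_cases hE hf h))).comm_K hk
  have haγ : ∀ f ∈ K, a * γ f * a = γ f := fun f hf => by
    show a * (f * (a * f * a)) * a = f * (a * f * a)
    rw [cj_mul haa, cj_cj haa, haf f hf]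
    have h := hγK f hf f hf
    rw [mul_assoc, h.eq]
  have hγmul : ∀ f ∈ K, ∀ k ∈ K, γ (f * k) = γ f * γ k := fun f hf k hk => by
    show f * k * (a * (f * k) * a) = f * (a * f * a) * (k * (a * k * a))
    have h : Commute k (a * f * a) := by
      rw [haf f hf]; exact (K_comm hD hk hf).mul_right (hγK f hf k hk).symm
    rw [cj_mul haa, show f * k * (a * f * a * (a * k * a)) = f * (k * (a * f * a)) * (a * k * a) by
      group, h.eq]
    group
  have hγγ : ∀ f ∈ K, ∀ k ∈ K, Commute (γ f) (γ k) := fun f hf k hk => by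
    have h1 := hγK f hf k hk
    refine h1.mul_right ?_
    have h2 := cj_comm haa h1
    rwa [haγ f hf] at h2
  -- `v` on the image of `γ`
  have hvγ : ∀ f, A f → v * γ f * v = γ f * f := by
    rintro f ⟨hfK, hf⟩
    by_cases h : f = 1
    · rw [h, hγ1, mul_one, mul_one, hvv]
    have hfD : v * f ∈ D := hf.resolve_left h
    have hfE := K_cases hE hfK h
    obtain ⟨h4', hg⟩ := hγfour f hfE
    obtain ⟨hgD, hga, hgf, e1, -, -, -, -⟩ := four_cj hD ha hfE.1 h4' hg.symm
    have hgW := Xs.subset hD (hγX f hfE)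
    refine six hD ha hvD hfE.1 hgD hbr (hv.comm_twin hfE) hfD e1 hga.symm hgf.symm ?_ hva hne ?_
    · by_cases hgv : Commute (γ f) v
      · rw [cj_fix hvv hgv.symm]
      · obtain ⟨-, hcg, -, -, e2, -, -, -⟩ :=
          four_cj hD hgD hvD (hgW.four hD hvD hv.comm hgv) rfl
        rw [e2]; exact (Commute.refl _).mul_right hcg.symm
    · exact fun ho => four_not_odd h4' (odd_symm hD hfE.1 ha ho)
  -- `A` is closed
  have hAmul : ∀ f k, A f → A k → A (f * k) := by
    rintro f k ⟨hfK, hf⟩ ⟨hkK, hk⟩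
    refine ⟨mul_mem hfK hkK, ?_⟩
    by_cases hf1 : f = 1
    · rw [hf1, one_mul]; exact hk
    by_cases hk1 : k = 1
    · rw [hk1, mul_one]; exact hf
    replace hf := hf.resolve_left hf1
    replace hk := hk.resolve_left hk1
    right
    have hfE := K_cases hE hfK hf1
    have hne' : Cfsg.commutingMembers D v ≠ Cfsg.commutingMembers D f := fun h =>
      CfsgLib.RootConnect.not_commute_of_four hD huD hvD h4
        (hu.comm_twin (⟨hvD, hfE.2.trans h.symm⟩ : v ∈ Cfsg.sameCommutingClass D d)).eq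
    obtain ⟨y, hy, -, -, hyv, hyf, -⟩ := exists_move hD hc hvD hfE.1 (hv.comm_twin hfE).symm
      (by rw [← (hv.comm_twin hfE).eq]; exact hf) hne'
    have hyy := root_mul_self hD hy
    have hyd := (twin_iff hfE hy).mp hyf
    have hyk : Commute y k := (twin_iff (K_cases hE hkK hk1) hy).mpr hyd
    have h := cj_mem hD hy hk
    rwa [cj_mul_of hyy hyv (cj_fix hyy hyk), mul_assoc] at h
  -- the map `F`
  let F : G → G := fun f => γ f * (z * γ f * z)
  have hF1 : F 1 = 1 := by show γ 1 * (z * γ 1 * z) = 1; rw [hγ1, one_mul, mul_one, hzz]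
  have hFK : ∀ f ∈ K, F f ∈ K ∧ z * γ f * z = γ f * F f := by
    intro f hf
    by_cases h : f = 1
    · rw [h, hF1, hγ1]; exact ⟨one_mem _, by rw [mul_one, mul_one, hzz]⟩
    have hX := hγX f (K_cases hE hf h)
    have hW := Xs.subset hD hX
    have hgg := root_mul_self hD hW.memD
    refine ⟨?_, by show _ = γ f * (γ f * (z * γ f * z)); rw [← mul_assoc (γ f) (γ f), hgg, one_mul]⟩
    by_cases hcz : Commute z (γ f)
    · show γ f * (z * γ f * z) ∈ K
      rw [cj_fix hzz hcz, hgg]; exact one_mem _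
    · have h4' := hzW.four hD hW.memD hW.comm hcz
      obtain ⟨-, -, -, e1, -, -, -, -⟩ := four_cj hD hzD hW.memD h4' rfl
      show γ f * (z * γ f * z) ∈ K
      rw [e1, ← mul_assoc, hgg, one_mul]
      exact mem_K (hgood _ hX h4')
  obtain ⟨v'', hv''⟩ : ∃ x, x = v * z := ⟨_, rfl⟩
  have hv''c : u * v * u = v'' := hv''.symm ▸ huv
  have hv''W : IsW D d v'' := by
    have h := hv.conj hD hu.comm
    rwa [root_inv hD huD, hv''c] at h
  have hv''D := hv''W.memD
  have hv''v := root_mul_self hD hv''D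
  have hv''x : ∀ x, v'' * x * v'' = v * (z * x * z) * v := fun x => by
    calc v'' * x * v'' = v * z * x * (v * z) := by rw [hv'']
      _ = v * z * x * (z * v) := by rw [hzv.eq]
      _ = v * (z * x * z) * v := by group
  have hv''γ : ∀ f, A f → v'' * γ f * v'' = γ f * (f * F f) := by
    intro f hf
    obtain ⟨hFf, hzγ⟩ := hFK f hf.1
    rw [hv''x, hzγ, cj_mul_of hvv (hvγ f hf) (cj_fix hvv (hv.comm_K hFf)), mul_assoc]
  have hv''four : orderOf (u * v'') = 4 ∧ (u * v'') ^ 2 = z := by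
    rw [← hv''c, show u * (u * v * u) = v * u by
      rw [← mul_assoc, ← mul_assoc, huu, one_mul]]
    refine ⟨?_, (four_cj hD huD hvD h4 hz).2.2.2.2.2.2.2⟩
    rw [← orderOf_inv, mul_inv_rev, root_inv hD huD, root_inv hD hvD]; exact h4
  -- (ii) no fixed point
  have hFne : ∀ f, A f → f ≠ 1 → F f ≠ f := by
    intro f hf h1 e
    have hfE := K_cases hE hf.1 h1
    have hX := hγX f hfE
    have hW := Xs.subset hD hX
    obtain ⟨hFf, hzγ⟩ := hFK f hf.1
    have hcz : ¬ Commute z (γ f) := fun h => h1 (by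
      rw [← e]; show γ f * (z * γ f * z) = 1
      rw [cj_fix hzz h, root_mul_self hD hW.memD])
    have h4' := hzW.four hD hW.memD hW.comm hcz
    have hc'' : Commute (γ f) v'' := (commute_of_fix hv''v (by
      rw [hv''γ f hf, e, hKK f hf.1, mul_one])).symm
    exact core hD hc hu hv''W hv''four.1 hv''four.2 hW hc'' h4' rfl (hgood _ hX h4')
  have hAF : ∀ f, A f → A (F f) := by
    intro f hf
    obtain ⟨hFf, hzγ⟩ := hFK f hf.1
    by_cases h1 : f = 1
    · rw [h1, hF1]; exact hA1
    by_cases h2 : f * F f = 1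
    · exact absurd (inv_eq_of_mul_eq_one_right h2 ▸
        (inv_eq_of_mul_eq_one_right (hKK f hf.1) : f⁻¹ = f)) (hFne f hf h1)
    have hW := Xs.subset hD (hγX f (K_cases hE hf.1 h1))
    have hgg := root_mul_self hD hW.memD
    have hee : f * F f ∈ K := mul_mem hf.1 hFf
    have hn : ¬ Commute v'' (γ f) := fun h => by
      have := cj_fix hv''v h
      rw [hv''γ f hf] at this
      exact h2 (mul_eq_left.mp this)
    have h4' := hv''W.four hD hW.memD hW.comm hn
    obtain ⟨-, -, -, e1, -, hmem, -, -⟩ := four_cj hD hv''D hW.memD h4' rfl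
    have hsq : (v'' * γ f) ^ 2 = f * F f := by
      rw [hv''γ f hf] at e1
      exact (mul_left_cancel e1).symm
    rw [hsq] at hmem
    have hmem2 := cj_mem hD huD hmem
    have hfix : u * (f * F f) * u = f * F f := cj_fix huu (hu.comm_K hee)
    have hv2 : u * v'' * u = v := by rw [← hv''c, cj_cj huu]
    rw [cj_mul_of huu hv2 hfix] at hmem2
    have h3 := hAmul f (f * F f) hf ⟨hee, Or.inr hmem2⟩
    rwa [← mul_assoc, hKK f hf.1, one_mul] at h3
  -- the image of `d`
  set e1 := F d with he1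
  have hAe : A e1 := hAF d hAd
  have hztt : z * t * z = t * e1 := by rw [← hγt]; exact (hFK d hdK).2
  have htW : IsW D d t := hγt ▸ Xs.subset hD (hγX d (self_mem_E hd))
  have htt := root_mul_self hD htW.memD
  have he11 : e1 ≠ 1 := fun h => by
    rw [h, mul_one] at hztt
    exact CfsgLib.RootConnect.not_commute_of_four hD hzD htW.memD hzt (commute_of_fix hzz hztt).eq
  have hee1 := hKK e1 hAe.1
  -- (iii) no kernel
  have hFk : ∀ f, A f → f ≠ 1 → F f ≠ 1 := by
    intro f hf h1 e
    have hfE := K_cases hE hf.1 h1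
    obtain ⟨h4', hg⟩ := hγfour f hfE
    obtain ⟨hgD, hga, hgf, e', -, -, hfgD, -⟩ := four_cj hD ha hfE.1 h4' hg.symm
    have hgX := hv''γ f hf
    rw [e, mul_one] at hgX
    have hcyc : Cycle v'' a f (γ f) := ⟨hv''v, haa, root_mul_self hD hfE.1, root_mul_self hD hgD,
      hgf.symm, cj_fix hv''v (hv''W.comm_twin hfE), hgX, cj_fix haa hga.symm, e',
      line_ne hD hfE.1 hfgD⟩
    have hfv : v'' * f ∈ D := by
      have h := cj_mem hD huD (hf.2.resolve_left h1)
      rwa [cj_mul_of huu hv''c (cj_fix huu (hu.comm_twin hfE))] at h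
    have hb := hcyc.braid hD hv''D ha hfE.1 hfv
    have hX := braid_apply hb.symm t
    have hat' : a * t * a = t := by rw [← hγt]; exact haγ d hdK
    have hv't : v'' * t * v'' = t * (d * e1) := by
      rw [hv''x, hztt, cj_mul_of hvv hvt (cj_fix hvv (hv.comm_K hAe.1)), mul_assoc]
    have had' : a * d * a = d * t := by rw [← hγt]; exact haf d hdK
    rw [hat', hv't, cj_mul_of haa hat' (cj_mul_of haa had' (haf e1 hAe.1))] at hX
    have hXe : t * (d * t * (e1 * γ e1)) = d * e1 * γ e1 := by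
      rw [show t * (d * t * (e1 * γ e1)) = t * d * t * e1 * γ e1 by group, htW.comm.eq,
        mul_mul_self htt]
    rw [hXe, cj_mul_of hv''v (cj_mul_of hv''v (cj_fix hv''v (hv''W.comm_K hdK))
      (cj_fix hv''v (hv''W.comm_K hAe.1))) (hv''γ e1 hAe)] at hX
    have h3 : e1 * F e1 = 1 := mul_eq_left.mp (mul_left_cancel hX).symm
    refine hFne e1 hAe he11 ?_
    rw [← inv_eq_of_mul_eq_one_right h3, inv_eq_of_mul_eq_one_right hee1]
  -- `a z` has odd order
  have hzd' : z * d * z = d := cj_fix hzz hzW.comm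
  have hat' : a * t * a = t := by rw [← hγt]; exact haγ d hdK
  have had' : a * d * a = d * t := by rw [← hγt]; exact haf d hdK
  have hodd : Odd (orderOf (z * a)) := by
    by_contra ho
    have h44 := not_odd_pow_four hD hzD ha ho
    have hcomm : ∀ x, z * (a * (z * (a * x * a) * z) * a) * z = a * (z * (a * (z * x * z) * a) * z) * a := by
      intro x
      have e : z * a * z * a = a * z * a * z := by
        calc z * a * z * a = (z * a) ^ 4 * ((z * a) ^ 2)⁻¹ := by
              simp only [pow_succ, pow_zero, one_mul]; group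
          _ = a⁻¹ * z⁻¹ * a⁻¹ * z⁻¹ := by rw [h44, one_mul, pow_two]; group
          _ = a * z * a * z := by rw [root_inv hD ha, root_inv hD hzD]
      calc z * (a * (z * (a * x * a) * z) * a) * z = (z * a * z * a) * x * (a * z * a * z) := by group
        _ = (a * z * a * z) * x * (z * a * z * a) := by rw [← e, e]
        _ = a * (z * (a * (z * x * z) * a) * z) * a := by group
    have hx := hcomm d
    rw [hzd', had', cj_mul_of hzz hzd' hztt, cj_mul_of haa had' (cj_mul_of haa hat' (haf e1 hAe.1)),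
      show d * t * (t * (e1 * γ e1)) = d * (t * t) * (e1 * γ e1) by group, htt, mul_one,
      cj_mul_of hzz hzd' (cj_mul_of hzz (cj_fix hzz (hzW.comm_K hAe.1)) (hFK e1 hAe.1).2)] at hx
    exact hFk e1 hAe he11 (mul_eq_left.mp (mul_left_cancel (mul_left_cancel hx)))
  -- conjugate `z` to `a` and then to `v`
  let P : Set G := {x | ∃ e f, A e ∧ A f ∧ x = e * γ f}
  have hPa : ∀ x ∈ P, a * x * a ∈ P := by
    rintro _ ⟨e, f, he, hf, rfl⟩
    refine ⟨e, e * f, he, hAmul e f he hf, ?_⟩
    rw [cj_mul_of haa (haf e he.1) (haγ f hf.1), hγmul e he.1 f hf.1, mul_assoc]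
  have hPz : ∀ x ∈ P, z * x * z ∈ P := by
    rintro _ ⟨e, f, he, hf, rfl⟩
    obtain ⟨hFf, hzγ⟩ := hFK f hf.1
    refine ⟨e * F f, f, hAmul e _ he (hAF f hf), hf, ?_⟩
    rw [cj_mul_of hzz (cj_fix hzz (hzW.comm_K he.1)) hzγ]
    exact (congrArg (e * ·) (hγK f hf.1 _ hFf).eq).trans (mul_assoc _ _ _).symm
  obtain ⟨g, hg, hgz⟩ := conj_of_odd_order (hD.orderOf_eq z hzD) (hD.orderOf_eq a ha) hodd
  have hPg : ∀ x ∈ P, g * x * g⁻¹ ∈ P := by
    clear hgz
    induction hg using Subgroup.closure_induction'' with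
    | mem y hy =>
      rcases hy with rfl | hy
      · rw [root_inv hD hzD]; exact hPz
      · rw [Set.mem_singleton_iff.mp hy, root_inv hD ha]; exact hPa
    | inv_mem y hy =>
      rcases hy with rfl | hy
      · rw [root_inv hD hzD, root_inv hD hzD]; exact hPz
      · rw [Set.mem_singleton_iff.mp hy, root_inv hD ha, root_inv hD ha]; exact hPa
    | one => exact fun x hx => by simpa using hx
    | mul p q _ _ hp hq =>
      intro x hx
      rw [show p * q * x * (p * q)⁻¹ = p * (q * x * q⁻¹) * p⁻¹ by group]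
      exact hp _ (hq x hx)
  obtain ⟨e, f, he, hf, hgd⟩ := hPg d ⟨d, 1, hAd, hA1, by rw [hγ1, mul_one]⟩
  have hfixd : Commute a (g * d * g⁻¹) := by
    rw [← hgz]
    show g * z * g⁻¹ * (g * d * g⁻¹) = g * d * g⁻¹ * (g * z * g⁻¹)
    rw [show g * z * g⁻¹ * (g * d * g⁻¹) = g * (z * d) * g⁻¹ by group, hzW.comm.eq]
    group
  have he0 : e = 1 := by
    by_contra hne0
    have h := cj_fix haa hfixd
    rw [hgd, cj_mul_of haa (haf e he.1) (haγ f hf.1), mul_right_cancel_iff, mul_eq_left] at h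
    have hX := Xs.subset hD (hγX e (K_cases hE he.1 hne0))
    exact ne_one_of_involution (hD.orderOf_eq _ hX.memD) h
  rw [he0, one_mul] at hgd
  have hf1 : f ≠ 1 := fun h => by
    rw [h, hγ1] at hgd
    refine ne_one_of_involution (hD.orderOf_eq d hd) ?_
    rw [show d = g⁻¹ * (g * d * g⁻¹) * g by group, hgd]; group
  obtain ⟨w, hw⟩ : ∃ w, w = v * a * v := ⟨_, rfl⟩
  have hww : w⁻¹ = w := by
    rw [hw, mul_inv_rev, mul_inv_rev, root_inv hD hvD, root_inv hD ha, mul_assoc]
  set h := w * g with hh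
  have hhz : h * z * h⁻¹ = v := by
    rw [hh, show w * g * z * (w * g)⁻¹ = w * (g * z * g⁻¹) * w⁻¹ by group, hgz, hww, hw]
    calc v * a * v * a * (v * a * v) = v * a * v * a * (a * v * a) := by rw [hbr]
      _ = v * (a * (v * (a * a) * v) * a) := by group
      _ = v := by rw [haa, mul_one, hvv, mul_one, haa, mul_one]
  have hhd : h * d * h⁻¹ = f := by
    rw [hh, show w * g * d * (w * g)⁻¹ = w * (g * d * g⁻¹) * w⁻¹ by group, hgd, hww, hw,
      show v * a * v * γ f * (v * a * v) = v * (a * (v * γ f * v) * a) * v by group, hvγ f hf,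
      cj_mul_of haa (haγ f hf.1) (haf f hf.1),
      show γ f * (f * γ f) = f * (γ f * γ f) by
        rw [← mul_assoc, (hγK f hf.1 f hf.1).eq, mul_assoc],
      root_mul_self hD (Xs.subset hD (hγX f (K_cases hE hf.1 hf1))).memD, mul_one,
      cj_fix hvv (hv.comm_K hf.1)]
  -- count the members of `Xs` commuting with `z` and with `v`
  let S : G → Set G := fun x => {y | y ∈ Xs D d ∧ Commute y x}
  have hsub : S v ⊆ S z := fun y hy =>
    ⟨hy.1, commute_of_commute hD hc hu hv h4 hz hgood hy.1 hy.2⟩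
  have hle : (S z).ncard ≤ (S v).ncard := by
    refine Set.ncard_le_ncard_of_injOn (fun x => h * x * h⁻¹) (fun y hy => ⟨?_, ?_⟩)
      (MulAut.conj h).injective.injOn (Set.toFinite _)
    · exact Xs_conj hD (hhd.symm ▸ K_cases hE hf.1 hf1) hy.1
    · rw [← hhz]
      show h * y * h⁻¹ * (h * z * h⁻¹) = h * z * h⁻¹ * (h * y * h⁻¹)
      rw [show h * y * h⁻¹ * (h * z * h⁻¹) = h * (y * z) * h⁻¹ by group, hy.2.eq]
      group
  have hS := Set.eq_of_subset_of_ncard_le hsub hle (Set.toFinite _)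
  -- a member commuting with `z` and not with `v`
  have huz : u * z * u = z := cj_fix huu hzu.symm
  have hude : u * e1 * u = e1 := cj_fix huu (hu.comm_K hAe.1)
  have htd : t * d * t = d := cj_fix htt htW.comm
  have htv : t * v * t = v * d := by
    calc t * v * t = (v * v) * (t * v * t) := by rw [hvv, one_mul]
      _ = v * ((v * t * v) * t) := by group
      _ = v * d := by rw [hvt, htd]
  have htz : t * z * t = z * e1 := by
    calc t * z * t = (z * z) * (t * z * t) := by rw [hzz, one_mul]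
      _ = z * ((z * t * z) * t) := by group
      _ = z * e1 := by
          rw [hztt, show t * e1 * t = e1 from cj_fix htt (htW.comm_K hAe.1)]
  have hut : ¬ Commute u t := fun hut => by
    refine he11 (mul_eq_left.mp (?_ : z * e1 = z))
    rw [← htz, ← hz, pow_two]
    calc t * (u * v * (u * v)) * t = (t * u * t) * (t * v * t) * ((t * u * t) * (t * v * t)) := by
          simp only [mul_assoc]; simp [← mul_assoc t t, htt]
      _ = u * (v * d) * (u * (v * d)) := by rw [cj_fix htt hut.symm, htv]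
      _ = u * v * (d * (u * v)) * d := by group
      _ = u * v * (u * v) * (d * d) := by rw [← (hu.comm.mul_left hv.comm).eq]; group
      _ = u * v * (u * v) := by rw [hdd, mul_one]
  have hut4 := hu.four hD htW.memD htW.comm hut
  set c := (u * t) ^ 2 with hcdef
  have hcW := hu.sq hD htW hut4 hcdef.symm
  have hcc := root_mul_self hD hcW.memD
  have hcx : ∀ x, c * x * c = u * (t * (u * (t * x * t) * u) * t) * u := fun x => by
    have e2 : c = t * u * t * u := by
      rw [hcdef, ← (four_facts hD huD htW.memD hut4).2.2.2.2.2, pow_two]; group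
    calc c * x * c = (u * t * u * t) * x * c := by rw [hcdef, pow_two]; group
      _ = (u * t * u * t) * x * (t * u * t * u) := by rw [e2]
      _ = u * (t * (u * (t * x * t) * u) * t) * u := by group
  have hue : t * e1 * t = e1 := cj_fix htt (htW.comm_K hAe.1)
  have hcz : Commute c z := commute_of_fix hcc (by
    rw [hcx, htz, cj_mul_of huu huz hude, cj_mul_of htt htz hue, mul_mul_self hee1, huz])
  have hcv : c * v * c = v * e1 := by
    rw [hcx, htv, cj_mul_of huu huv hzud,
      cj_mul_of htt (cj_mul_of htt htv htz) htd,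
      show v * d * (z * e1) * d = v * (d * (z * e1) * d) by group,
      cj_fix hdd (hzW.comm.symm.mul_right ((self_isW hD hd).comm_K hAe.1)),
      cj_mul_of huu huv (cj_mul_of huu huz hude),
      show v * z * (z * e1) = v * (z * z) * e1 by group, hzz, mul_one]
  have hncv : ¬ Commute c v := fun h => by
    have := cj_fix hcc h
    rw [hcv] at this
    exact he11 (mul_eq_left.mp this)
  have hcv4 := hcW.four hD hvD hv.comm hncv
  obtain ⟨-, -, -, e', -, hce, -, -⟩ := four_cj hD hcW.memD hvD hcv4 rfl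
  rw [hcv] at e'
  rw [← mul_left_cancel e'] at hce
  have hcX : c ∈ Xs D d := by
    have he1E := K_cases hE hAe.1 he11
    refine ⟨e1, he1E, ⟨⟨hcW.memD, (hcW.comm_twin he1E).eq, fun h => hncv ?_⟩, hce⟩⟩
    rw [h]; exact (hv.comm_twin he1E).symm
  exact hncv ((hS ▸ (⟨hcX, hcz⟩ : c ∈ S z) : c ∈ S v).2)


set_option maxHeartbeats 1000000 in
/-- A good square of a member of `W` and a product partner of `d` is a twin of `d`. -/
theorem twin_of_good_aux (hD : Cfsg.IsRootInvolutionSet D)
    (hc : Cfsg.IsConnectedSet (Cfsg.OddAdj D) D)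
    (hE : (Cfsg.sameCommutingSubgroup D d : Set G) = Cfsg.sameCommutingClass D d ∪ {1})
    (hd : d ∈ D) {u v z : G} (hu : IsW D d u) (hv : IsW D d v)
    (h4 : orderOf (u * v) = 4) (hz : (u * v) ^ 2 = z) (hgood : Good D d z)
    (hvdD : v * d ∈ D) (hzE : z ∉ Cfsg.sameCommutingClass D d) : False := by
  have huD := hu.memD
  have hvD := hv.memD
  have huu := root_mul_self hD huD
  have hvv := root_mul_self hD hvD
  have hzW := hu.sq hD hv h4 hz
  have hzD := hzW.memD
  have hzz := root_mul_self hD hzD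
  obtain ⟨-, hzu, hzv, huv, -, -, hvzD, -⟩ := four_cj hD huD hvD h4 hz
  -- a product partner `t` of `d` moving `z`
  obtain ⟨x, hx, hxd⟩ := Set.not_subset.mp fun h =>
    hzE ⟨hzD, (twin_of_conn hD hc hzD hd h).symm⟩
  have hxdn : ¬ Commute x d := fun h => hzW.nonodd hx.1 h hx.2.1 hx.2.2
  have hxd4 : orderOf (x * d) = 4 := four_of hD hx.1 hd hxdn fun ho =>
    hxd ⟨hx.1, fun e => hxdn (e ▸ Commute.refl d), odd_symm hD hx.1 hd ho⟩
  obtain ⟨t, hxt⟩ : ∃ t, (x * d) ^ 2 = t := ⟨_, rfl⟩
  obtain ⟨htD, htx, htd, -, -, hxtD, hdtD, -⟩ := four_cj hD hx.1 hd hxd4 hxt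
  have htX : t ∈ Xs D d := ⟨d, self_mem_E hd, ⟨⟨htD, htd.eq, (line_ne hD hd hdtD).symm⟩,
    by rw [htd.eq]; exact hdtD⟩⟩
  have htW := Xs.subset hD htX
  have htzn : ¬ Commute z t := fun h => common_commuting hD hx.1 htD hzD htx.symm.eq
    (by rw [htx.eq]; exact hxtD) h.symm.eq hx.2.1 (odd_symm hD hzD hx.1 hx.2.2)
  have hzt4 := hzW.four hD htD htW.comm htzn
  have he1E := hgood t htX hzt4
  obtain ⟨e1, hzt⟩ : ∃ e, (z * t) ^ 2 = e := ⟨_, rfl⟩
  rw [hzt] at he1E
  obtain ⟨he1D, -, he1t, hztz, -, -, -, -⟩ := four_cj hD hzD htD hzt4 hzt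
  have htvn : ¬ Commute v t := fun h =>
    htzn (commute_of_commute hD hc hu hv h4 hz hgood htX h.symm).symm
  have hvt4 := hv.four hD htD htW.comm htvn
  obtain ⟨b, hvt⟩ : ∃ b, (v * t) ^ 2 = b := ⟨_, rfl⟩
  obtain ⟨hbD, hbv, hbt, hvtv, -, hvbD, htbD, -⟩ := four_cj hD hvD htD hvt4 hvt
  have htt := root_mul_self hD htD
  have hbb := root_mul_self hD hbD
  have hbW := hv.sq hD htW hvt4 hvt
  -- a member `a` moving `b` to `b t`
  have hbtne : Cfsg.commutingMembers D b ≠ Cfsg.commutingMembers D t := fun h => by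
    have h1 : v ∈ Cfsg.commutingMembers D t := h ▸ ⟨hvD, hbv.symm⟩
    exact htvn h1.2
  obtain ⟨a, ha, -, -, hab, hat, hatD⟩ := exists_move hD hc hbD htD hbt.symm htbD hbtne
  have haa := root_mul_self hD ha
  have hcyc : Cycle v a b t := ⟨hvv, haa, hbb, htt, hbt, cj_fix hvv hbv.symm, hvtv,
    cj_fix haa hat, hab, (line_ne hD htD htbD).symm⟩
  have hne := hcyc.ne'
  have hva := hcyc.odd hD hvD ha
  have hbr := hcyc.braid hD hvD ha hbD hvbD
  have hadn : ¬ Commute a d := fun h => hv.nonodd ha h hne.symm hva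
  have had4 : orderOf (a * d) = 4 := four_of hD ha hd hadn fun ho =>
    common_commuting hD ha htD hd hat.eq (by rw [← hat.eq]; exact hatD) htd.eq
      (fun e => hadn (e ▸ Commute.refl d)) ho
  obtain ⟨g, hg⟩ : ∃ g, (a * d) ^ 2 = g := ⟨_, rfl⟩
  obtain ⟨hgD, hga, hgd, had, -, -, hdgD, -⟩ := four_cj hD ha hd had4 hg
  have hgX : g ∈ Xs D d := ⟨d, self_mem_E hd, ⟨⟨hgD, hgd.eq, (line_ne hD hd hdgD).symm⟩,
    by rw [hgd.eq]; exact hdgD⟩⟩
  have hgW := Xs.subset hD hgX
  have hgy : Commute g (v * g * v) := by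
    by_cases hgv : Commute g v
    · rw [cj_fix hvv hgv.symm]
    · obtain ⟨-, hcg, -, -, e2, -, -, -⟩ := four_cj hD hgD hvD (hgW.four hD hvD hv.comm hgv) rfl
      rw [e2]; exact (Commute.refl g).mul_right hcg.symm
  have hvg : v * g * v = g * d := six hD ha hvD hd hgD hbr hv.comm hvdD had hga.symm hgd.symm hgy
    hva hne (fun ho => four_not_odd had4 (odd_symm hD hd ha ho))
  by_cases hzg : Commute z g
  swap
  · exact case_move hD hc hE hd hu hv h4 hz hgood hvdD ha had4 hg hbr hva hne hvg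
      (hzW.four hD hgD hgW.comm hzg)
  -- `v z` together with `a` leads to a contradiction
  obtain ⟨w, hw⟩ : ∃ w, w = v * z := ⟨_, rfl⟩
  have hwc : u * v * u = w := hw.symm ▸ huv
  have hwD : w ∈ D := hw.symm ▸ hvzD
  have hww := root_mul_self hD hwD
  have hwx : ∀ y, w * y * w = v * (z * y * z) * v := fun y => by
    calc w * y * w = v * z * y * (v * z) := by rw [hw]
      _ = v * z * y * (z * v) := by rw [hzv.eq]
      _ = v * (z * y * z) * v := by group
  have hwd : w * d * w = d := by rw [hwx, cj_fix hzz hzW.comm, cj_fix hvv hv.comm]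
  have hwg : w * g * w = g * d := by rw [hwx, cj_fix hzz hzg, hvg]
  have hwdD : w * d ∈ D := by
    have h := cj_mem hD huD hvdD
    rwa [cj_mul_of huu hwc (cj_fix huu hu.comm)] at h
  have hcyc2 : Cycle w a d g := ⟨hww, haa, root_mul_self hD hd, root_mul_self hD hgD, hgd.symm,
    hwd, hwg, cj_fix haa hga.symm, had, line_ne hD hd hdgD⟩
  have hbr2 := (hcyc2.braid hD hwD ha hd hwdD).symm
  have ha1 : orderOf (a * e1) = 4 := four_twin hD hc hd ha he1E had4
  obtain ⟨g', hg'⟩ : ∃ g', (a * e1) ^ 2 = g' := ⟨_, rfl⟩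
  obtain ⟨hg'D, hg'a, -, hae1, -, -, -, -⟩ := four_cj hD ha he1D ha1 hg'
  have hve1 : v * e1 * v = e1 := cj_fix hvv (hv.comm_twin he1E)
  have hze1 : z * e1 * z = e1 := cj_fix hzz (hzW.comm_twin he1E)
  have hwe1 : w * e1 * w = e1 := by rw [hwx, hze1, hve1]
  have hzb : z * b * z = b := by
    have hb' : b = t * (v * t * v) := by rw [hvtv, ← mul_assoc, htt, one_mul]
    have hbe : Commute b e1 := hbW.comm_twin he1E
    conv_lhs => rw [hb']
    rw [cj_mul_of hzz hztz (cj_mul_of hzz (cj_mul_of hzz (cj_fix hzz hzv) hztz) (cj_fix hzz hzv)),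
      show v * (t * e1) * v = t * b * e1 by rw [cj_mul_of hvv hvtv hve1],
      show t * e1 * (t * b * e1) = t * (e1 * (t * b)) * e1 by group,
      (he1t.mul_right hbe.symm).eq,
      show t * (t * b * e1) * e1 = t * t * b * (e1 * e1) by group,
      htt, root_mul_self hD he1D, one_mul, mul_one]
  have hwb : w * b * w = b := by rw [hwx, hzb, cj_fix hvv hbv.symm]
  have hwt : w * t * w = t * b * e1 := by rw [hwx, hztz, cj_mul_of hvv hvtv hve1]
  have hat' : a * t * a = t := cj_fix haa hat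
  -- evaluate at `t`
  have h1 := braid_apply hbr2 t
  rw [hat', hwt, cj_mul_of haa (cj_mul_of haa hat' hab) hae1,
    show t * (b * t) = b by rw [← mul_assoc, ← hbt.eq, mul_mul_self htt],
    cj_mul_of hww hwb (cj_mul_of hww hwe1 rfl)] at h1
  have hwg' : w * g' * w = g' := (mul_left_cancel (mul_left_cancel h1)).symm
  -- evaluate at `e1`
  have h2 := braid_apply hbr2 e1
  rw [hae1, hwe1, hae1, cj_mul_of hww hwe1 hwg', cj_mul_of haa hae1 (cj_fix haa hg'a.symm),
    mul_mul_self (root_mul_self hD hg'D), eq_comm, mul_eq_left] at h2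
  exact ne_one_of_involution (hD.orderOf_eq g' hg'D) h2

theorem Good.congr {e z : G} (he : e ∈ Cfsg.sameCommutingClass D d) (h : Good D d z) :
    Good D e z := by
  unfold Good; rw [Xs_congr he, E_congr he]; exact h

theorem twin_of_good (hD : Cfsg.IsRootInvolutionSet D) (hc : Cfsg.IsConnectedSet (Cfsg.OddAdj D) D)
    (hE : (Cfsg.sameCommutingSubgroup D d : Set G) = Cfsg.sameCommutingClass D d ∪ {1})
    (hd : d ∈ D) {x y z : G} (hx : IsW D d x) (hy : y ∈ Xs D d)
    (h4 : orderOf (x * y) = 4) (hz : (x * y) ^ 2 = z) (hgood : Good D d z) :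
    z ∈ Cfsg.sameCommutingClass D d := by
  obtain ⟨e, he, ⟨⟨hyD, hye, hne⟩, hp⟩⟩ := id hy
  by_contra hzE
  have hde : d ∈ Cfsg.sameCommutingClass D e := by rw [E_congr he]; exact self_mem_E hd
  refine twin_of_good_aux hD hc ?_ he.1 (hx.congr hde) ((Xs.subset hD hy).congr hde) h4 hz
    (hgood.congr he) hp ?_
  · unfold Cfsg.sameCommutingSubgroup at hE ⊢
    rw [E_congr he]; exact hE
  · rw [E_congr he]; exact hzE

/-- All squares of products of order four of `W` with `Xs` are twins of `d`. -/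
theorem square_twin (hD : Cfsg.IsRootInvolutionSet D) (hc : Cfsg.IsConnectedSet (Cfsg.OddAdj D) D)
    (hE : (Cfsg.sameCommutingSubgroup D d : Set G) = Cfsg.sameCommutingClass D d ∪ {1})
    (hd : d ∈ D) {N : Subgroup G} (hN : ∀ w, IsW D d w → w ∈ N) (hnil : Group.IsNilpotent N)
    {x : G} (hx : IsW D d x) : Good D d x := by
  by_contra hbad
  have key : ∀ n, ∃ x, IsW D d x ∧ ¬ Good D d x ∧ x ∈ N.lowerCentralSeries n := by
    intro n
    induction n with
    | zero => exact ⟨x, hx, hbad, hN x hx⟩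
    | succ n ih =>
      obtain ⟨x, hx, hbad, hxn⟩ := ih
      simp only [Good, not_forall] at hbad
      obtain ⟨y, hy, h4, hne⟩ := hbad
      have hyW := Xs.subset hD hy
      refine ⟨(x * y) ^ 2, hx.sq hD hyW h4 rfl,
        fun hg => hne (twin_of_good hD hc hE hd hx hy h4 rfl hg), ?_⟩
      rw [Subgroup.lowerCentralSeries_succ]
      have e : (x * y) ^ 2 = ⁅x, y⁆ := by
        rw [commutatorElement_def, root_inv hD hx.memD, root_inv hD hyW.memD, pow_two]; group
      rw [e]
      exact Subgroup.commutator_mem_commutator hxn (hN y hyW)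
  obtain ⟨n, hn⟩ := (Subgroup.isNilpotent_iff_lowerCentralSeries (S := N)).mp hnil
  obtain ⟨x, hx, -, hxn⟩ := key n
  rw [hn, Subgroup.mem_bot] at hxn
  exact ne_one_of_involution (hD.orderOf_eq x hx.memD) hxn

end CfsgLib.RootStructure74
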